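import Cfsg.Agent.H229.Large

/-!
# The `P!`-theorem (S3046): the local half, part 1

`Hyp p S Z C Q P`: the hypotheses of S3046 (without the `K_p`-hypothesis and without `Y_M ≤ Q`).
-/

set_option autoImplicit false
set_option linter.unusedSectionVars false
open Cfsg Subgroup
open Cfsg.Agent.H230 Cfsg.Agent.H229

namespace Cfsg.Agent.H247.P1

variable {H : Type*} [Group H] {p : ℕ}

/-- the hypotheses of S3046 about `S, Z, C, Q`. -/
structure Hyp (p : ℕ) (S : Sylow p H) (Z C Q : Subgroup H) : Prop where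
  hloc : IsOfLocalCharacteristic p H
  hZ : Z = omegaOne p ((S : Subgroup H) ⊓ centralizer ((S : Subgroup H) : Set H))
  hCloc : ∃ T : Subgroup H, IsPGroup p ↥T ∧ T ≠ ⊥ ∧ C = normalizer (T : Set H)
  hCmax : ∀ L : Subgroup H, (∃ T : Subgroup H, IsPGroup p ↥T ∧ T ≠ ⊥ ∧ L = normalizer (T : Set H)) → C ≤ L → L = C
  hNZ : normalizer (Z : Set H) ≤ C
  hQ : Q = pCoreOf p C
  hQuniq : ∀ x ∈ Q ⊓ centralizer (Q : Set H), x ≠ 1 → centralizer ({x} : Set H) ≤ C

namespace Hyp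

variable {S : Sylow p H} {Z C Q : Subgroup H}

theorem Z_le (h : Hyp p S Z C Q) : Z ≤ (S : Subgroup H) ⊓ centralizer ((S : Subgroup H) : Set H) := by
  rw [h.hZ]; exact omegaOne_le _ _

theorem S_le_cent_Z (h : Hyp p S Z C Q) : (S : Subgroup H) ≤ centralizer (Z : Set H) :=
  le_centralizer_comm (h.Z_le.trans inf_le_right)

theorem S_le (h : Hyp p S Z C Q) : (S : Subgroup H) ≤ C :=
  h.S_le_cent_Z.trans ((centralizer_le_norm _).trans h.hNZ)

theorem cent_Z_le (h : Hyp p S Z C Q) : centralizer (Z : Set H) ≤ C :=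
  (centralizer_le_norm _).trans h.hNZ

theorem norm_S_le (h : Hyp p S Z C Q) : normalizer ((S : Subgroup H) : Set H) ≤ C := by
  refine le_trans ?_ h.hNZ
  have h1 : normalizer ((S : Subgroup H) : Set H) ≤
      normalizer (((S : Subgroup H) ⊓ centralizer ((S : Subgroup H) : Set H) : Subgroup H) : Set H) :=
    le_trans (le_inf le_rfl (norm_le_norm_centralizer _)) (norm_inf_le _ _)
  refine h1.trans ?_
  rw [h.hZ]
  intro x hx
  rw [mem_norm] at hx ⊢
  have := omegaOne_map_equiv p (MulAut.conj x) ((S : Subgroup H) ⊓ centralizer ((S : Subgroup H) : Set H))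
  change omegaOne p (cj x _) = cj x _ at this
  rw [← this, hx]

variable [Finite H] [Fact p.Prime]

omit [Finite H] in
theorem isSylowOf (S : Sylow p H) {L : Subgroup H} (hL : (S : Subgroup H) ≤ L) :
    IsSylowOf p (S : Subgroup H) L := by
  rw [isSylowOf_iff_maximal]
  exact ⟨hL, S.2, fun R _ hR hSR => S.3 hR hSR⟩

theorem Q_le_C (h : Hyp p S Z C Q) : Q ≤ C := by rw [h.hQ]; exact H229.pCoreOf_le _ _

theorem Q_pgroup (h : Hyp p S Z C Q) : IsPGroup p ↥Q := by rw [h.hQ]; exact isPGroup_pCoreOf _ _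

theorem Q_le_S (h : Hyp p S Z C Q) : Q ≤ (S : Subgroup H) := by
  rw [h.hQ]; exact pCoreOf_le_of_isSylowOf (isSylowOf S h.S_le)

theorem Q_ne_bot (h : Hyp p S Z C Q) : Q ≠ ⊥ := by
  obtain ⟨T, hT, hT1, hC⟩ := h.hCloc
  have h1 : T ≤ pCoreOf p C := by
    apply le_pCoreOf
    · rw [hC]; exact le_normalizer
    · rw [hC]
    · exact hT
  rw [h.hQ]
  intro h2
  exact hT1 (le_bot_iff.1 (h2 ▸ h1))

theorem C_eq (h : Hyp p S Z C Q) : normalizer (Q : Set H) = C := by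
  apply h.hCmax _ ⟨Q, h.Q_pgroup, h.Q_ne_bot, rfl⟩
  rw [h.hQ]
  exact le_norm_pCoreOf p C

theorem cent_Q_le (h : Hyp p S Z C Q) : centralizer (Q : Set H) ≤ Q := by
  have h1 := h.hloc.2 Q h.Q_pgroup h.Q_ne_bot
  rw [← chP_iff, h.C_eq] at h1
  intro x hx
  rw [h.hQ] at hx ⊢
  refine h1 ⟨?_, hx⟩
  have : x ∈ normalizer (Q : Set H) := centralizer_le_norm _ (by rw [h.hQ]; exact hx)
  rwa [h.C_eq] at this

theorem Z_le_cent_Q (h : Hyp p S Z C Q) : Z ≤ centralizer (Q : Set H) :=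
  h.Z_le.trans (inf_le_right.trans (Subgroup.centralizer_le h.Q_le_S))

theorem Z_le_Q (h : Hyp p S Z C Q) : Z ≤ Q := h.Z_le_cent_Q.trans h.cent_Q_le

theorem S_ne_bot (h : Hyp p S Z C Q) : (S : Subgroup H) ≠ ⊥ := by
  intro h1
  exact h.Q_ne_bot (le_bot_iff.1 (h1 ▸ h.Q_le_S))

theorem Z_ne_bot (h : Hyp p S Z C Q) : Z ≠ ⊥ := by
  rw [h.hZ]
  exact omegaOne_center_ne_bot S.2 h.S_ne_bot

theorem cent_le (h : Hyp p S Z C Q) {x : H} (hx : x ∈ centralizer (Q : Set H)) (hx1 : x ≠ 1) :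
    centralizer ({x} : Set H) ≤ C :=
  h.hQuniq x ⟨h.cent_Q_le hx, hx⟩ hx1

theorem cj_Q_of_mem (h : Hyp p S Z C Q) {g : H} (hg : g ∈ C) : cj g Q = Q := by
  rw [← h.C_eq] at hg
  exact mem_norm.1 hg

theorem mem_C_of_cj_Q (h : Hyp p S Z C Q) {g : H} (hg : cj g Q = Q) : g ∈ C := by
  rw [← h.C_eq]
  exact mem_norm.2 hg

/-- weak closure of `Q` in `S` -/
theorem mem_C_of_cj_le_S (h : Hyp p S Z C Q) {g : H} (hg : cj g Q ≤ (S : Subgroup H)) : g ∈ C := by
  obtain ⟨z, hz⟩ := (Subgroup.ne_bot_iff_exists_ne_one).1 h.Z_ne_bot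
  · have hzc : (z : H) ∈ centralizer ((S : Subgroup H) : Set H) := (h.Z_le z.2).2
    have h1 : (z : H) ∈ centralizer ((cj g Q : Subgroup H) : Set H) := (Subgroup.centralizer_le hg) hzc
    rw [← cj_centralizer, mem_cj] at h1
    have h2 : g⁻¹ * (z : H) * g ≠ 1 := by
      intro h3
      apply hz
      have : (z : H) = g * 1 * g⁻¹ := by rw [← h3]; group
      exact Subtype.ext (by simpa using this)
    have h3 := h.cent_le h1 h2
    -- `S ≤ C_H(z) ≤ C^g`
    have h4 : (S : Subgroup H) ≤ cj g C := by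
      intro s hs
      rw [mem_cj]
      apply h3
      rw [mem_centralizer_singleton_iff]
      have h5 : s * (z : H) = (z : H) * s := (mem_centralizer_iff.1 hzc) s hs
      calc g⁻¹ * s * g * (g⁻¹ * (z : H) * g) = g⁻¹ * (s * z) * g := by group
        _ = g⁻¹ * (z * s) * g := by rw [h5]
        _ = g⁻¹ * (z : H) * g * (g⁻¹ * s * g) := by group
    have h5 : cj g (S : Subgroup H) ≤ cj g C := cj_mono h.S_le
    have h6 : IsSylowOf p (cj g (S : Subgroup H)) (cj g C) := (isSylowOf S h.S_le).map_equiv (MulAut.conj g)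
    obtain ⟨a, ha, hPa⟩ := h6.exists_conj (isSylowOf S h4)
    have h7 : a * g ∈ C := by
      apply h.norm_S_le
      rw [mem_norm, cj_mul]; exact hPa
    -- `a ∈ cj g C`, so `g⁻¹ * a * g ∈ C`
    rw [mem_cj] at ha
    have h8 : g⁻¹ ∈ C := by
      have h9 := C.mul_mem ha (C.inv_mem h7)
      have e : g⁻¹ * a * g * (a * g)⁻¹ = g⁻¹ := by group
      rwa [e] at h9
    simpa using C.inv_mem h8

theorem mem_C_of_cj_le_C (h : Hyp p S Z C Q) {g : H} (hg : cj g Q ≤ C) : g ∈ C := by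
  obtain ⟨T, hT, hgT⟩ := exists_isSylowOf_ge (p := p) hg (isPGroup_cj h.Q_pgroup)
  obtain ⟨a, ha, hTa⟩ := hT.exists_conj (isSylowOf S h.S_le)
  have h1 : cj (a * g) Q ≤ (S : Subgroup H) := by
    rw [cj_mul, ← hTa]
    exact cj_mono hgT
  have h2 := h.mem_C_of_cj_le_S h1
  have := C.mul_mem (C.inv_mem ha) h2
  simpa using this

/-- points: `C_H(Q) ∩ C_H(Q^g) = 1` for `g ∉ C`, elementwise. -/
theorem eq_one_of_mem (h : Hyp p S Z C Q) {g x : H} (hg : g ∉ C) (hx : x ∈ centralizer (Q : Set H))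
    (hx' : x ∈ cj g (centralizer (Q : Set H))) : x = 1 := by
  by_contra hx1
  apply hg
  apply h.mem_C_of_cj_le_C
  have h1 : cj g Q ≤ centralizer ({x} : Set H) := by
    intro y hy
    rw [mem_centralizer_singleton_iff]
    rw [cj_centralizer] at hx'
    exact (mem_centralizer_iff.1 hx') y hy
  exact h1.trans (h.cent_le hx hx1)

theorem norm_le (h : Hyp p S Z C Q) {X : Subgroup H} (hX : X ≤ centralizer (Q : Set H)) (hX1 : X ≠ ⊥) :
    normalizer (X : Set H) ≤ C := by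
  intro g hg
  by_contra hgC
  apply hX1
  rw [Subgroup.eq_bot_iff_forall]
  intro x hx
  apply h.eq_one_of_mem hgC (hX hx)
  rw [← mem_norm.1 hg] at hx
  exact cj_mono hX hx

theorem isLarge (h : Hyp p S Z C Q) : IsLarge Q := by
  refine ⟨h.cent_Q_le, fun U hU hU1 => ?_⟩
  rw [h.C_eq]
  exact h.norm_le hU hU1

theorem largeP (h : Hyp p S Z C Q) : LargeP p Q := ⟨h.Q_pgroup, h.Q_ne_bot, h.isLarge⟩

end Hyp

end Cfsg.Agent.H247.P1
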