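import Cfsg.Agent.H229.Base

/-!
# Overgroups of a Sylow `p`-subgroup of `SL₂(F)`, `char F = p`
-/

set_option autoImplicit false
set_option linter.unusedSectionVars false
open Cfsg Subgroup
open Cfsg.Agent.H230 Cfsg.Agent.H229

namespace Cfsg.Agent.H247.P1.Sl

variable {F : Type*} [Field F]

local notation "SL2" => Matrix.SpecialLinearGroup (Fin 2) F

theorem sl_ext' {g h : Matrix.SpecialLinearGroup (Fin 2) F} (h00 : g.1 0 0 = h.1 0 0) (h01 : g.1 0 1 = h.1 0 1)
    (h10 : g.1 1 0 = h.1 1 0) (h11 : g.1 1 1 = h.1 1 1) : g = h := by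
  apply Subtype.ext
  ext i j
  fin_cases i <;> fin_cases j <;> assumption

theorem det_eq' (g : SL2) : g.1 0 0 * g.1 1 1 - g.1 0 1 * g.1 1 0 = 1 := by
  rw [← Matrix.det_fin_two]; exact g.2

/-- The upper unitriangular element of `SL₂(F)`. -/
def up (t : F) : SL2 := ⟨!![1, t; 0, 1], by simp⟩

/-- The lower unitriangular element of `SL₂(F)`. -/
def lo (t : F) : SL2 := ⟨!![1, 0; t, 1], by simp⟩

theorem mul_coe (g h : SL2) (i j : Fin 2) : (g * h).1 i j = g.1 i 0 * h.1 0 j + g.1 i 1 * h.1 1 j := by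
  change (g.1 * h.1 : Matrix (Fin 2) (Fin 2) F) i j = _
  simp [Matrix.mul_apply, Fin.sum_univ_two]

theorem up_add (s t : F) : up (s + t) = up s * up t := by
  apply sl_ext' <;> simp only [mul_coe] <;> simp [up, add_comm]

theorem up_zero : up (0 : F) = 1 := by
  apply sl_ext' <;> simp [up]

theorem up_neg (s : F) : up (-s) = (up s)⁻¹ := by
  rw [eq_inv_iff_mul_eq_one, ← up_add, neg_add_cancel, up_zero]

theorem up_pow (s : F) (n : ℕ) : (up s) ^ n = up (n * s) := by
  induction n with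
  | zero => simp [up_zero]
  | succ n ih => rw [pow_succ, ih, ← up_add]; congr 1; push_cast; ring

/-- the group of upper unitriangular elements -/
def U (F : Type*) [Field F] : Subgroup (Matrix.SpecialLinearGroup (Fin 2) F) where
  carrier := Set.range up
  one_mem' := ⟨0, up_zero⟩
  mul_mem' := by
    rintro _ _ ⟨s, rfl⟩ ⟨t, rfl⟩
    exact ⟨s + t, up_add s t⟩
  inv_mem' := by
    rintro _ ⟨s, rfl⟩
    exact ⟨-s, up_neg s⟩

theorem mem_U {g : SL2} : g ∈ U F ↔ g.1 0 0 = 1 ∧ g.1 1 0 = 0 := by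
  constructor
  · rintro ⟨t, rfl⟩
    exact ⟨rfl, rfl⟩
  · rintro ⟨h1, h2⟩
    have h3 := det_eq' g
    rw [h1, h2] at h3
    have h4 : g.1 1 1 = 1 := by linear_combination h3
    exact ⟨g.1 0 1, sl_ext' (by rw [h1]; rfl) rfl (by rw [h2]; rfl) (by rw [h4]; rfl)⟩

theorem isPGroup_U {p : ℕ} [Fact p.Prime] [CharP F p] : IsPGroup p ↥(U F) := by
  rintro ⟨_, s, rfl⟩
  refine ⟨1, Subtype.ext ?_⟩
  show (up s) ^ p ^ 1 = 1
  rw [up_pow, pow_one, CharP.cast_eq_zero, zero_mul, up_zero]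

/-- the action on column vectors -/
def act : MulAction SL2 (Fin 2 → F) where
  smul g v := g.1.mulVec v
  one_smul v := by
    change (1 : Matrix (Fin 2) (Fin 2) F).mulVec v = v
    simp
  mul_smul g h v := by
    change (g.1 * h.1).mulVec v = g.1.mulVec (h.1.mulVec v)
    rw [Matrix.mulVec_mulVec]

theorem exists_conj_fix [Finite F] {p : ℕ} [Fact p.Prime] [CharP F p] {T : Subgroup SL2} (hT : IsPGroup p ↥T) :
    ∃ g : SL2, cj g T ≤ U F := by
  letI := act (F := F)
  have hp : p ∣ Nat.card (Fin 2 → F) := by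
    have h1 : p ∣ Nat.card F := by
      have := Fintype.ofFinite F
      rw [Nat.card_eq_fintype_card]
      obtain ⟨n, _, hn⟩ := FiniteField.card F p
      rw [hn]
      exact dvd_pow_self p n.ne_zero
    rw [Nat.card_pi]
    simp only [Finset.prod_const]
    exact dvd_pow h1 (by simp)
  have h0 : (0 : Fin 2 → F) ∈ MulAction.fixedPoints ↥T (Fin 2 → F) := by
    intro t
    show (t : SL2).1.mulVec 0 = 0
    exact Matrix.mulVec_zero _
  obtain ⟨v, hv, hv0⟩ := hT.exists_fixed_point_of_prime_dvd_card_of_fixed_point _ hp h0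
  have hfix : ∀ t ∈ T, (t : SL2).1.mulVec v = v := fun t ht => hv ⟨t, ht⟩
  -- `g e₁ = v`
  obtain ⟨g, hg⟩ : ∃ g : SL2, g.1 0 0 = v 0 ∧ g.1 1 0 = v 1 := by
    by_cases h : v 0 = 0
    · have h1 : v 1 ≠ 0 := by
        intro h1
        apply hv0
        ext i
        fin_cases i
        · exact h.symm
        · exact h1.symm
      refine ⟨⟨!![0, -(v 1)⁻¹; v 1, 0], ?_⟩, ?_, ?_⟩
      · rw [Matrix.det_fin_two_of]; field_simp; ring
      · simp [h]
      · simp
    · refine ⟨⟨!![v 0, 0; v 1, (v 0)⁻¹], ?_⟩, ?_, ?_⟩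
      · rw [Matrix.det_fin_two_of]; field_simp; ring
      · simp
      · simp
  refine ⟨g⁻¹, ?_⟩
  rintro _ ⟨t, ht, rfl⟩
  show g⁻¹ * t * g⁻¹⁻¹ ∈ U F
  rw [inv_inv]
  set x := g⁻¹ * t * g with hx
  have h1 : g * x = t * g := by rw [hx]; group
  have h2 := hfix t ht
  have h20 : t.1 0 0 * v 0 + t.1 0 1 * v 1 = v 0 := by
    have := congrFun h2 0
    simpa [Matrix.mulVec, dotProduct, Fin.sum_univ_two] using this
  have h21 : t.1 1 0 * v 0 + t.1 1 1 * v 1 = v 1 := by
    have := congrFun h2 1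
    simpa [Matrix.mulVec, dotProduct, Fin.sum_univ_two] using this
  have e0 : (g * x).1 0 0 = g.1 0 0 := by
    rw [h1, mul_coe, hg.1, hg.2, h20]
  have e1 : (g * x).1 1 0 = g.1 1 0 := by
    rw [h1, mul_coe, hg.1, hg.2, h21]
  rw [mul_coe] at e0 e1
  have hd := det_eq' g
  rw [mem_U]
  constructor
  · linear_combination g.1 1 1 * e0 - g.1 0 1 * e1 + (1 - x.1 0 0) * hd
  · linear_combination g.1 0 0 * e1 - g.1 1 0 * e0 - x.1 1 0 * hd

/-- the Sylow `p`-subgroups are conjugate to `U` -/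
theorem exists_conj_sylow [Finite F] {p : ℕ} [Fact p.Prime] [CharP F p] (T : Sylow p SL2) :
    ∃ g : SL2, cj g (T : Subgroup SL2) = U F := by
  obtain ⟨g, hg⟩ := exists_conj_fix T.2
  refine ⟨g, ?_⟩
  have h1 : (T : Subgroup SL2) ≤ cj g⁻¹ (U F) := by rwa [le_cj_iff, inv_inv]
  have h2 := T.3 (isPGroup_cj (g := g⁻¹) (isPGroup_U (p := p))) h1
  rw [cj_eq_iff, ← h2]

/-- a subgroup containing `U` and an element that is not upper triangular is everything -/
theorem eq_top_of {L : Subgroup SL2} (hU : U F ≤ L) {g : SL2} (hg : g ∈ L) (hc : g.1 1 0 ≠ 0) : L = ⊤ := by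
  have hu : ∀ t : F, up t ∈ L := fun t => hU ⟨t, rfl⟩
  have hd := det_eq' g
  -- `lo c ∈ L`
  have hlc : lo (g.1 1 0) ∈ L := by
    have : lo (g.1 1 0) = up (-((g.1 0 0 - 1) / g.1 1 0)) * g * up (-((g.1 1 1 - 1) / g.1 1 0)) := by
      apply sl_ext' <;> simp only [mul_coe] <;> simp [up, lo]
      · field_simp; ring
      · field_simp; linear_combination hd
      · field_simp; ring
    rw [this]
    exact mul_mem (mul_mem (hu _) hg) (hu _)
  set c := g.1 1 0 with hcd
  -- `w ∈ L`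
  have hw : up (-c⁻¹) * lo c * up (-c⁻¹) ∈ L := mul_mem (mul_mem (hu _) hlc) (hu _)
  have hlo : ∀ t : F, lo t ∈ L := by
    intro t
    have : lo t = (up (-c⁻¹) * lo c * up (-c⁻¹)) * up (-(c⁻¹ * c⁻¹ * t)) * (up (-c⁻¹) * lo c * up (-c⁻¹))⁻¹ := by
      rw [eq_mul_inv_iff_mul_eq]
      apply sl_ext' <;> simp only [mul_coe] <;> simp [up, lo, hc] <;> (try field_simp) <;> (try ring)
    rw [this]
    exact mul_mem (mul_mem hw (hu _)) (inv_mem hw)
  have key : ∀ x : SL2, x.1 1 0 ≠ 0 → x ∈ L := by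
    intro x hx
    have hdx := det_eq' x
    have : x = up ((x.1 0 0 - 1) / x.1 1 0) * lo (x.1 1 0) * up ((x.1 1 1 - 1) / x.1 1 0) := by
      apply sl_ext' <;> simp only [mul_coe] <;> simp [up, lo]
      · field_simp; ring
      · field_simp; linear_combination (-1 : F) * hdx
      · field_simp; ring
    rw [this]
    exact mul_mem (mul_mem (hu _) (hlo _)) (hu _)
  rw [eq_top_iff]
  intro x _
  by_cases hx : x.1 1 0 = 0
  · have h1 : x * lo 1 ∈ L := by
      apply key
      rw [mul_coe, hx]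
      simp [lo]
      intro h2
      have := det_eq' x
      rw [hx, h2] at this
      simp at this
    have h2 := mul_mem h1 (inv_mem (hlo 1))
    rwa [mul_inv_cancel_right] at h2
  · exact key x hx

/-- A proper overgroup of a Sylow `p`-subgroup `T` of `SL₂(F)` normalises `T`. -/
theorem le_normalizer_of_ne_top [Finite F] {p : ℕ} [Fact p.Prime] [CharP F p] (T : Sylow p SL2) {L : Subgroup SL2}
    (hTL : (T : Subgroup SL2) ≤ L) (hL : L ≠ ⊤) : L ≤ normalizer ((T : Subgroup SL2) : Set SL2) := by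
  obtain ⟨g, hg⟩ := exists_conj_sylow T
  have h1 : U F ≤ cj g L := by rw [← hg]; exact cj_mono hTL
  have h2 : cj g L ≠ ⊤ := by
    intro h
    apply hL
    rw [cj_eq_iff] at h
    rw [h, cj_top]
  have h3 : cj g L ≤ normalizer ((U F : Subgroup SL2) : Set SL2) := by
    rw [le_norm_iff]
    intro x hx y hy
    have hx0 : x.1 1 0 = 0 := by
      by_contra hc
      exact h2 (eq_top_of h1 hx hc)
    obtain ⟨hy1, hy2⟩ := mem_U.1 hy
    have e : x * y = (x * y * x⁻¹) * x := by group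
    have hdx := det_eq' x
    rw [hx0] at hdx
    have e0 := congrArg (fun z : SL2 => z.1 0 0) e
    have e1 := congrArg (fun z : SL2 => z.1 1 0) e
    simp only [mul_coe (x * y * x⁻¹) x, mul_coe x y, hx0, hy1, hy2] at e0 e1
    have hx00 : x.1 0 0 ≠ 0 := by
      intro h; rw [h] at hdx; simp at hdx
    rw [mem_U]
    constructor
    · have : x.1 0 0 * (x * y * x⁻¹).1 0 0 = x.1 0 0 * 1 := by linear_combination -e0
      exact mul_left_cancel₀ hx00 this
    · have : x.1 0 0 * (x * y * x⁻¹).1 1 0 = x.1 0 0 * 0 := by linear_combination -e1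
      exact mul_left_cancel₀ hx00 this
  rw [← hg, ← cj_normalizer, cj_le_cj] at h3
  exact h3

end Cfsg.Agent.H247.P1.Sl
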