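import Cfsg.Agent.H247.P1.Par
import Cfsg.Agent.H247.P1.Sl
import Cfsg.Agent.H271.PU.Iface

/-!
# The `P!`-theorem (S3046): the local half, part 3

* `PHyp.of_hyp` : from the interface of helper271;
* `exists_caseB` : if the conjugates of `Y_P` under `C` commute with `Y_P`, the data of case B;
* `PHyp.omega_eq` : `Ω₁(Z(S ∩ P*)) = C_V(S ∩ P*)`;
* `PHyp.eq_inf_of_max` : the last clause of S3046.
-/

set_option autoImplicit false
set_option linter.unusedSectionVars false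
open Cfsg Subgroup
open Cfsg.Agent.H230 Cfsg.Agent.H229

namespace Cfsg.Agent.H247.P1

variable {H : Type*} [Group H] {p : ℕ}

/-- `Ω₁(Z(T))` in two descriptions -/
theorem omegaOne_eq_zOmega (T : Subgroup H) : omegaOne p (T ⊓ centralizer (T : Set H)) = zOmega p T := by
  apply le_antisymm
  · unfold omegaOne
    rw [closure_le]
    rintro x ⟨⟨hx1, hx2⟩, hx3⟩
    exact ⟨hx1, hx2, hx3⟩
  · rintro x ⟨hx1, hx2, hx3⟩
    exact subset_closure ⟨⟨hx1, hx2⟩, hx3⟩

theorem PHyp.of_hyp {S : Sylow p H} {C Q P : Subgroup H} (h : H271.PU.Hyp p S C Q P) :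
    PHyp p S (omegaOne p ((S : Subgroup H) ⊓ centralizer ((S : Subgroup H) : Set H))) C Q P where
  hloc := h.loc
  hZ := rfl
  hCloc := h.Cloc
  hCmax := h.Cmax
  hNZ := h.NZ
  hQ := h.Qeq
  hQuniq := h.Quniq
  hSP := h.SP
  hPmin := h.Pmin
  hPchar := h.Pchar
  hPC := h.PC

variable [Finite H] [Fact p.Prime]

/-- `Y_P ≤ Q` -/
theorem Y_le_Q_of_hyp {S : Sylow p H} {C Q P : Subgroup H} (h : H271.PU.Hyp p S C Q P) :
    largestPReducedOf p P ≤ Q := (PHyp.of_hyp h).Y_le_Q h.YM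

/-- the data of case B -/
theorem exists_caseB {S : Sylow p H} {C Q P : Subgroup H} (h : H271.PU.Hyp p S C Q P)
    (hc : ∀ c ∈ C, ∀ v ∈ largestPReducedOf p P, ∀ w ∈ largestPReducedOf p P, v * (c * w * c⁻¹) = c * w * c⁻¹ * v) :
    H271.PU.CaseB p S C Q P (largestPReducedOf p P) (ncl C (largestPReducedOf p P)) := by
  have h1 := PHyp.of_hyp h
  have hVQ := Y_le_Q_of_hyp h
  have hcomm : ∀ c ∈ C, cj c (largestPReducedOf p P) ≤ centralizer (largestPReducedOf p P : Set H) := by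
    rintro c hcC _ ⟨w, hw, rfl⟩
    rw [mem_centralizer_iff]
    intro v hv
    exact hc c hcC v hv w hw
  exact
  { loc := h.loc
    Cloc := h.Cloc
    Cmax := h.Cmax
    NZ := h.NZ
    Qeq := h.Qeq
    CQ := h1.cent_Q_le
    uniq := fun A _ hA hA1 => h1.norm_le hA hA1
    Quniq := h.Quniq
    SC := h1.S_le
    SP := h.SP
    Pmin := h.Pmin
    PC := h.PC
    Pchar := h.Pchar
    PV := largest_normal p P
    ZV := h1.Z_le_Y
    VW := le_ncl _ _
    WQ := ncl_le (by rw [← h1.C_eq]) hVQ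
    CW := le_norm_ncl _ _
    Welem := by
      apply ea_iSup
      · intro n
        exact ea_map (largest_ea p P) _
      · rintro ⟨n, hn⟩ ⟨m, hm⟩
        show cj n _ ≤ centralizer (cj m _ : Set H)
        have h2 := hcomm (m⁻¹ * n) (mul_mem (inv_mem hm) hn)
        rw [← cj_centralizer, le_cj_iff, ← cj_mul]
        exact h2 }

/-- the dichotomy Case A / Case B -/
theorem exists_caseB_or {S : Sylow p H} {C Q P : Subgroup H} (h : H271.PU.Hyp p S C Q P) :
    (∃ W, H271.PU.CaseB p S C Q P (largestPReducedOf p P) W) ∨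
      ∃ c ∈ C, ⁅largestPReducedOf p P, cj c (largestPReducedOf p P)⁆ ≠ ⊥ := by
  by_cases hc : ∀ c ∈ C, ∀ v ∈ largestPReducedOf p P, ∀ w ∈ largestPReducedOf p P,
      v * (c * w * c⁻¹) = c * w * c⁻¹ * v
  · exact Or.inl ⟨_, exists_caseB h hc⟩
  · right
    push Not at hc
    obtain ⟨c, hcC, v, hv, w, hw, hne⟩ := hc
    refine ⟨c, hcC, fun h1 => hne ?_⟩
    have h2 := commutator_eq_bot_iff_le_centralizer.1 h1
    have h3 := (mem_centralizer_iff.1 (h2 hv)) (c * w * c⁻¹) (conj_mem_cj hw)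
    exact h3.symm

namespace PHyp

variable {S : Sylow p H} {Z C Q P Pstar : Subgroup H}

/-- `P* = ⟨Q^P⟩ O_p(P)` -/
theorem core_le_star (hPs : Pstar = ncl P Q ⊔ pCoreOf p P) : pCoreOf p P ≤ Pstar := by
  rw [hPs]; exact le_sup_right

theorem Q_le_star (hPs : Pstar = ncl P Q ⊔ pCoreOf p P) : Q ≤ Pstar := by
  rw [hPs]; exact (le_ncl P Q).trans le_sup_left

theorem star_le (h : PHyp p S Z C Q P) (hPs : Pstar = ncl P Q ⊔ pCoreOf p P) : Pstar ≤ P := by
  rw [hPs]; exact sup_le (ncl_le_self h.Q_le_P) (H229.pCoreOf_le _ _)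

theorem star_norm (hPs : Pstar = ncl P Q ⊔ pCoreOf p P) : P ≤ normalizer (Pstar : Set H) := by
  rw [hPs]
  exact le_trans (le_inf (le_norm_ncl P Q) (le_norm_pCoreOf p P)) (norm_sup_le _ _)

theorem star_sup (h : PHyp p S Z C Q P) (hPs : Pstar = ncl P Q ⊔ pCoreOf p P) : Pstar ⊔ (S : Subgroup H) = P := by
  apply le_antisymm (sup_le (h.star_le hPs) h.hSP)
  calc P = ncl P Q ⊔ (S : Subgroup H) := h.ncl_Q_sup.symm
    _ ≤ _ := sup_le_sup_right (by rw [hPs]; exact le_sup_left) _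

theorem sylow_star (h : PHyp p S Z C Q P) (hPs : Pstar = ncl P Q ⊔ pCoreOf p P) :
    IsSylowOf p ((S : Subgroup H) ⊓ Pstar) Pstar :=
  h.sylP.inf_normal (h.star_le hPs) (star_norm hPs)

/-- `Ω₁(Z(S ∩ P*)) = C_V(S ∩ P*)`, `V = Y_P`; for any `T` with `O_p(P) ≤ T ≤ S`. -/
theorem omega_eq (h : PHyp p S Z C Q P) {T : Subgroup H} (hDT : pCoreOf p P ≤ T) :
    omegaOne p (T ⊓ centralizer (T : Set H)) = largestPReducedOf p P ⊓ centralizer (T : Set H) := by
  rw [omegaOne_eq_zOmega, h.Y_eq]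
  apply le_antisymm
  · rintro x ⟨hx1, hx2, hx3⟩
    have hx4 : x ∈ centralizer (pCoreOf p P : Set H) := (Subgroup.centralizer_le hDT) hx2
    exact ⟨⟨h.hPchar hx4, hx4, hx3⟩, hx2⟩
  · rintro x ⟨⟨hx1, hx2, hx3⟩, hx4⟩
    exact ⟨hDT hx1, hx4, hx3⟩

/-- `Z ≤ Ω₁(Z(T))` for `O_p(P) ≤ T ≤ S`. -/
theorem omega_ne_bot (h : PHyp p S Z C Q P) {T : Subgroup H} (hDT : pCoreOf p P ≤ T) (hTS : T ≤ (S : Subgroup H)) :
    omegaOne p (T ⊓ centralizer (T : Set H)) ≠ ⊥ := by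
  rw [h.omega_eq hDT]
  intro h1
  apply h.Z_ne_bot
  rw [← le_bot_iff, ← h1]
  exact le_inf h.Z_le_Y (h.Z_le.trans (inf_le_right.trans (Subgroup.centralizer_le hTS)))

/-- the last clause of S3046 -/
theorem eq_inf_of_max (h : PHyp p S Z C Q P) (hPs : Pstar = ncl P Q ⊔ pCoreOf p P) {F : Type} [Field F] [Finite F]
    [CharP F p] (hnat : IsNaturalSL2Module F (largestPReducedOf p P) Pstar)
    (hker : Pstar ⊓ centralizer (largestPReducedOf p P : Set H) = pCoreOf p P)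
    (hn : C ≤ normalizer ((omegaOne p (((S : Subgroup H) ⊓ Pstar) ⊓
      centralizer (((S : Subgroup H) ⊓ Pstar : Subgroup H) : Set H)) : Subgroup H) : Set H))
    {M : Subgroup H} (hMP : M < P) (hSM : (S : Subgroup H) ≤ M) (hmax : ∀ M', M ≤ M' → M' < P → M' = M) :
    M = P ⊓ C := by
  set T := (S : Subgroup H) ⊓ Pstar with hT
  have hDT : pCoreOf p P ≤ T := le_inf h.D_le_S (core_le_star hPs)
  -- `N_H(R) = C`
  have hNR : normalizer ((omegaOne p (T ⊓ centralizer (T : Set H)) : Subgroup H) : Set H) = C := by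
    refine h.hCmax _ ⟨_, ?_, h.omega_ne_bot hDT inf_le_left, rfl⟩ hn
    exact isPGroup_mono ((omegaOne_le _ _).trans (inf_le_left.trans inf_le_left)) S.2
  suffices hMC : M ≤ C from (hmax _ (le_inf hMP.le hMC) h.inf_lt).symm
  suffices hMT : M ≤ normalizer (T : Set H) by
    refine hMT.trans ?_
    rw [← hNR]
    intro x hx
    rw [omegaOne_eq_zOmega]
    exact norm_le_norm_zOmega p T hx
  obtain ⟨hPn, ρ, ψ, hρ, hρk, -⟩ := hnat
  -- the image of `T`
  obtain ⟨TS, hTS⟩ := h.sylow_star hPs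
  let T' : Sylow p (Matrix.SpecialLinearGroup (Fin 2) F) := TS.mapSurjective hρ
  set L := M ⊓ Pstar with hL
  have hTL : T ≤ L := inf_le_inf_right _ hSM
  have hkerD : ρ.ker = (pCoreOf p P).subgroupOf Pstar := by
    rw [hρk, ← hker]
    ext x
    simp only [mem_subgroupOf, mem_inf]
    exact ⟨fun hx => ⟨x.2, hx⟩, fun hx => hx.2⟩
  have h1 : ((L.subgroupOf Pstar).map ρ) ≠ ⊤ := by
    intro htop
    have h2 : L.subgroupOf Pstar = ⊤ := by
      rw [eq_top_iff]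
      intro x _
      have h3 : ρ x ∈ (L.subgroupOf Pstar).map ρ := by rw [htop]; exact mem_top _
      obtain ⟨y, hy, hyx⟩ := h3
      have h4 : y⁻¹ * x ∈ ρ.ker := by
        rw [MonoidHom.mem_ker, map_mul, map_inv, hyx, inv_mul_cancel]
      rw [hkerD] at h4
      have h5 : y⁻¹ * x ∈ L.subgroupOf Pstar := by
        rw [mem_subgroupOf] at h4 ⊢
        exact hTL (hDT h4)
      have := mul_mem (show y ∈ L.subgroupOf Pstar from hy) h5
      rwa [mul_inv_cancel_left] at this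
    apply hMP.not_ge
    rw [← h.star_sup hPs]
    refine sup_le ?_ hSM
    exact (subgroupOf_eq_top.1 h2).trans inf_le_left
  have h2 : (T' : Subgroup (Matrix.SpecialLinearGroup (Fin 2) F)) ≤ (L.subgroupOf Pstar).map ρ := by
    show (TS : Subgroup ↥Pstar).map ρ ≤ _
    apply Subgroup.map_mono
    intro x hx
    rw [mem_subgroupOf]
    apply hTL
    rw [hT, ← hTS]
    exact ⟨x, hx, rfl⟩
  have h3 := Sl.le_normalizer_of_ne_top T' h2 h1
  have hLT : L ≤ normalizer (T : Set H) := by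
    rw [le_norm_iff]
    intro x hx y hy
    have hxP : x ∈ Pstar := hx.2
    have hyP : y ∈ Pstar := hy.2
    have h4 : ρ (⟨x, hxP⟩ * ⟨y, hyP⟩ * ⟨x, hxP⟩⁻¹) ∈ (T' : Subgroup (Matrix.SpecialLinearGroup (Fin 2) F)) := by
      rw [map_mul, map_mul, map_inv]
      refine (le_norm_iff.1 h3) _ ⟨_, mem_subgroupOf.2 hx, rfl⟩ _ ?_
      refine ⟨⟨y, hyP⟩, ?_, rfl⟩
      have : y ∈ (TS : Subgroup ↥Pstar).map Pstar.subtype := by rw [hTS]; exact hy
      obtain ⟨z, hz, hzy⟩ := this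
      have e : z = ⟨y, hyP⟩ := Subtype.ext hzy
      rwa [← e]
    obtain ⟨z, hz, hzy⟩ := h4
    have h5 : z⁻¹ * (⟨x, hxP⟩ * ⟨y, hyP⟩ * ⟨x, hxP⟩⁻¹) ∈ ρ.ker := by
      rw [MonoidHom.mem_ker, map_mul, map_inv, hzy, inv_mul_cancel]
    rw [hkerD, mem_subgroupOf] at h5
    have h6 : (z : H) ∈ T := by rw [hT, ← hTS]; exact ⟨z, hz, rfl⟩
    have h7 := mul_mem h6 (hDT h5)
    simpa using h7
  -- `M = L S`
  have hST : (S : Subgroup H) ≤ normalizer (T : Set H) :=
    le_trans (le_inf le_normalizer (h.hSP.trans (star_norm hPs))) (norm_inf_le _ _)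
  intro m hm
  have hmP : m ∈ Pstar ⊔ (S : Subgroup H) := by rw [h.star_sup hPs]; exact hMP.le hm
  obtain ⟨x, hx, s, hs, rfl⟩ := (mem_sup_of_norm (h.hSP.trans (star_norm hPs))).1 hmP
  have hxM : x ∈ M := by
    have := M.mul_mem hm (M.inv_mem (hSM hs))
    rwa [mul_inv_cancel_right] at this
  exact mul_mem (hLT ⟨hxM, hx⟩) (hST hs)

end PHyp

end Cfsg.Agent.H247.P1
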