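import Cfsg.Agent.H247.P1.Ker
import Cfsg.Agent.H250.P1.CaseA

/-!
# S3046 from case B

`of_caseB`: the statement S3046, given its conclusion in case B (`W = ⟨Y_P^C⟩` elementary abelian) in the form:
`Y_P` is a natural module for `P*` and `Ω₁(Z(S ∩ P*))` is normalised by `C`.
-/

set_option autoImplicit false
set_option linter.unusedSectionVars false
open Cfsg Subgroup
open Cfsg.Agent.H230 Cfsg.Agent.H229

namespace Cfsg.Agent.H247.P1

universe u

theorem of_caseB {H : Type u} [Group H] [Finite H] {p : ℕ} [Fact p.Prime] (hdiv : p ∣ Nat.card H)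
    (hK : Cfsg.IsKpGroup p H) (hloc : Cfsg.IsOfLocalCharacteristic p H)
    (S : Sylow p H) (Z C Q : Subgroup H)
    (hZ : Z = Cfsg.omegaOne p ((S : Subgroup H) ⊓ Subgroup.centralizer ((S : Subgroup H) : Set H)))
    (hCloc : (∃ T : Subgroup H, IsPGroup p ↥T ∧ T ≠ ⊥ ∧ C = Subgroup.normalizer (T : Set H))) (hCmax : ∀ L : Subgroup H, (∃ T : Subgroup H, IsPGroup p ↥T ∧ T ≠ ⊥ ∧ L = Subgroup.normalizer (T : Set H)) → C ≤ L → L = C)
    (hNZ : Subgroup.normalizer (Z : Set H) ≤ C) (hQ : Q = (Cfsg.pCore p ↥C).map C.subtype)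
    (hQuniq : ∀ x ∈ Q ⊓ Subgroup.centralizer (Q : Set H), x ≠ 1 → Subgroup.centralizer ({x} : Set H) ≤ C)
    (P : Subgroup H) (hSP : (S : Subgroup H) ≤ P) (hPmin : Cfsg.IsPMinimal p ↥P)
    (hPchar : Subgroup.centralizer (((Cfsg.pCore p ↥P).map P.subtype : Subgroup H) : Set H) ≤ (Cfsg.pCore p ↥P).map P.subtype) (hPC : ¬ P ≤ C)
    (hYM : ∀ M : Subgroup H, P ≤ M → Subgroup.centralizer (((Cfsg.pCore p ↥M).map M.subtype : Subgroup H) : Set H) ≤ (Cfsg.pCore p ↥M).map M.subtype →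
      (∀ M' : Subgroup H, M ≤ M' → Subgroup.centralizer (((Cfsg.pCore p ↥M').map M'.subtype : Subgroup H) : Set H) ≤ (Cfsg.pCore p ↥M').map M'.subtype → M' = M) →
      Cfsg.largestPReducedOf p M ≤ Q)
    (Pstar : Subgroup H)
    (hPstar : Pstar = (Subgroup.normalClosure ((Q.subgroupOf P : Subgroup ↥P) : Set ↥P)).map P.subtype ⊔ (Cfsg.pCore p ↥P).map P.subtype)
    (hB : ∀ W : Subgroup H, H271.PU.Hyp p S C Q P → H271.PU.CaseB p S C Q P (largestPReducedOf p P) W →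
      (∃ (F : Type) (_ : Field F) (_ : Fintype F), ringChar F = p ∧
        Cfsg.IsNaturalSL2Module F (Cfsg.largestPReducedOf p P) Pstar) ∧
      C ≤ normalizer ((omegaOne p (((S : Subgroup H) ⊓ Pstar) ⊓
        centralizer (((S : Subgroup H) ⊓ Pstar : Subgroup H) : Set H)) : Subgroup H) : Set H)) :
    (∃ (F : Type) (_ : Field F) (_ : Fintype F), ringChar F = p ∧
       Cfsg.IsNaturalSL2Module F (Cfsg.largestPReducedOf p P) Pstar ∧
       Pstar ⊓ Subgroup.centralizer (Cfsg.largestPReducedOf p P : Set H) = (Cfsg.pCore p ↥P).map P.subtype) ∧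
    Cfsg.omegaOne p (((S : Subgroup H) ⊓ Pstar) ⊓ Subgroup.centralizer (((S : Subgroup H) ⊓ Pstar : Subgroup H) : Set H)) ≤ C ∧
    ((Cfsg.omegaOne p (((S : Subgroup H) ⊓ Pstar) ⊓ Subgroup.centralizer (((S : Subgroup H) ⊓ Pstar : Subgroup H) : Set H))).subgroupOf C).Normal ∧
    ∀ M : Subgroup H, M < P → (S : Subgroup H) ≤ M → (∀ M' : Subgroup H, M ≤ M' → M' < P → M' = M) → M = P ⊓ C := by
  subst hZ
  have h : H271.PU.Hyp p S C Q P :=
    ⟨hdiv, hK, hloc, hCloc, hCmax, hNZ, hQ, hQuniq, hSP, hPmin, hPchar, hPC, hYM⟩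
  have h1 := PHyp.of_hyp h
  rcases exists_caseB_or h with ⟨W, hW⟩ | hA
  · obtain ⟨h2, h3⟩ := hB W h hW
    exact conclusion h hPstar h2 h3
  · have hPs' : Pstar = ncl P Q ⊔ pCoreOf p P := by rw [hPstar, normalClosure_map h1.Q_le_P]; rfl
    obtain ⟨F, i1, i2, hF, h2, -, h4⟩ := H250.P1.caseA h1 (Y_le_Q_of_hyp h) hA hPs'
    exact conclusion h hPstar ⟨F, i1, i2, ringChar.eq F p, h2⟩ h4

/-- the same, with case B giving the conclusion verbatim -/
theorem of_caseB' {H : Type u} [Group H] [Finite H] {p : ℕ} [Fact p.Prime] (hdiv : p ∣ Nat.card H)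
    (hK : Cfsg.IsKpGroup p H) (hloc : Cfsg.IsOfLocalCharacteristic p H)
    (S : Sylow p H) (Z C Q : Subgroup H)
    (hZ : Z = Cfsg.omegaOne p ((S : Subgroup H) ⊓ Subgroup.centralizer ((S : Subgroup H) : Set H)))
    (hCloc : (∃ T : Subgroup H, IsPGroup p ↥T ∧ T ≠ ⊥ ∧ C = Subgroup.normalizer (T : Set H))) (hCmax : ∀ L : Subgroup H, (∃ T : Subgroup H, IsPGroup p ↥T ∧ T ≠ ⊥ ∧ L = Subgroup.normalizer (T : Set H)) → C ≤ L → L = C)
    (hNZ : Subgroup.normalizer (Z : Set H) ≤ C) (hQ : Q = (Cfsg.pCore p ↥C).map C.subtype)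
    (hQuniq : ∀ x ∈ Q ⊓ Subgroup.centralizer (Q : Set H), x ≠ 1 → Subgroup.centralizer ({x} : Set H) ≤ C)
    (P : Subgroup H) (hSP : (S : Subgroup H) ≤ P) (hPmin : Cfsg.IsPMinimal p ↥P)
    (hPchar : Subgroup.centralizer (((Cfsg.pCore p ↥P).map P.subtype : Subgroup H) : Set H) ≤ (Cfsg.pCore p ↥P).map P.subtype) (hPC : ¬ P ≤ C)
    (hYM : ∀ M : Subgroup H, P ≤ M → Subgroup.centralizer (((Cfsg.pCore p ↥M).map M.subtype : Subgroup H) : Set H) ≤ (Cfsg.pCore p ↥M).map M.subtype →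
      (∀ M' : Subgroup H, M ≤ M' → Subgroup.centralizer (((Cfsg.pCore p ↥M').map M'.subtype : Subgroup H) : Set H) ≤ (Cfsg.pCore p ↥M').map M'.subtype → M' = M) →
      Cfsg.largestPReducedOf p M ≤ Q)
    (Pstar : Subgroup H)
    (hPstar : Pstar = (Subgroup.normalClosure ((Q.subgroupOf P : Subgroup ↥P) : Set ↥P)).map P.subtype ⊔ (Cfsg.pCore p ↥P).map P.subtype)
    (hB : ∀ W : Subgroup H, H271.PU.Hyp p S C Q P → H271.PU.CaseB p S C Q P (largestPReducedOf p P) W →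
    (∃ (F : Type) (_ : Field F) (_ : Fintype F), ringChar F = p ∧
       Cfsg.IsNaturalSL2Module F (Cfsg.largestPReducedOf p P) Pstar ∧
       Pstar ⊓ Subgroup.centralizer (Cfsg.largestPReducedOf p P : Set H) = (Cfsg.pCore p ↥P).map P.subtype) ∧
    Cfsg.omegaOne p (((S : Subgroup H) ⊓ Pstar) ⊓ Subgroup.centralizer (((S : Subgroup H) ⊓ Pstar : Subgroup H) : Set H)) ≤ C ∧
    ((Cfsg.omegaOne p (((S : Subgroup H) ⊓ Pstar) ⊓ Subgroup.centralizer (((S : Subgroup H) ⊓ Pstar : Subgroup H) : Set H))).subgroupOf C).Normal ∧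
    ∀ M : Subgroup H, M < P → (S : Subgroup H) ≤ M → (∀ M' : Subgroup H, M ≤ M' → M' < P → M' = M) → M = P ⊓ C) :
    (∃ (F : Type) (_ : Field F) (_ : Fintype F), ringChar F = p ∧
       Cfsg.IsNaturalSL2Module F (Cfsg.largestPReducedOf p P) Pstar ∧
       Pstar ⊓ Subgroup.centralizer (Cfsg.largestPReducedOf p P : Set H) = (Cfsg.pCore p ↥P).map P.subtype) ∧
    Cfsg.omegaOne p (((S : Subgroup H) ⊓ Pstar) ⊓ Subgroup.centralizer (((S : Subgroup H) ⊓ Pstar : Subgroup H) : Set H)) ≤ C ∧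
    ((Cfsg.omegaOne p (((S : Subgroup H) ⊓ Pstar) ⊓ Subgroup.centralizer (((S : Subgroup H) ⊓ Pstar : Subgroup H) : Set H))).subgroupOf C).Normal ∧
    ∀ M : Subgroup H, M < P → (S : Subgroup H) ≤ M → (∀ M' : Subgroup H, M ≤ M' → M' < P → M' = M) → M = P ⊓ C := by
  subst hZ
  have h : H271.PU.Hyp p S C Q P :=
    ⟨hdiv, hK, hloc, hCloc, hCmax, hNZ, hQ, hQuniq, hSP, hPmin, hPchar, hPC, hYM⟩
  have h1 := PHyp.of_hyp h
  rcases exists_caseB_or h with ⟨W, hW⟩ | hA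
  · exact hB W h hW
  · have hPs' : Pstar = ncl P Q ⊔ pCoreOf p P := by rw [hPstar, normalClosure_map h1.Q_le_P]; rfl
    obtain ⟨F, i1, i2, hF, h2, -, h4⟩ := H250.P1.caseA h1 (Y_le_Q_of_hyp h) hA hPs'
    exact conclusion h hPstar ⟨F, i1, i2, ringChar.eq F p, h2⟩ h4

end Cfsg.Agent.H247.P1
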