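import Cfsg.Agent.H247.P1.Sl
import Cfsg.Agent.H487.SchurMult
import Cfsg.Agent.S2086
import Cfsg.Agent.S2116
import Cfsg.Agent.S0892
import Cfsg.Agent.S0250
import Cfsg.Agent.S0251
import Cfsg.Agent.S0252
import Cfsg.Agent.S0254

/-!
# Central `p'`-extensions of `SL₂(F)`, `char F = p`, generated by `p`-elements, are trivial
-/

set_option autoImplicit false
set_option linter.unusedSectionVars false
open Cfsg Subgroup

namespace Cfsg.Agent.H247.P1.Mult

open Cfsg.Agent.H247.P1.Sl

local notation "SL2" F => Matrix.SpecialLinearGroup (Fin 2) F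

variable {F : Type} [Field F]

theorem sq_of_center {z : SL2 F} (hz : z ∈ center (SL2 F)) :
    z.1 1 0 = 0 ∧ z.1 0 1 = 0 ∧ z.1 0 0 = z.1 1 1 ∧ z.1 0 0 * z.1 0 0 = 1 := by
  have h1 := mem_center_iff.1 hz (up 1)
  have h2 := mem_center_iff.1 hz (lo 1)
  have a0 := congrArg (fun g : SL2 F => g.1 0 0) h1
  have a1 := congrArg (fun g : SL2 F => g.1 0 1) h1
  have b0 := congrArg (fun g : SL2 F => g.1 0 0) h2
  simp only [mul_coe] at a0 a1 b0
  simp [up, lo] at a0 a1 b0
  have c1 : z.1 1 0 = 0 := by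
    have := a0
    simpa using this
  have c2 : z.1 0 1 = 0 := by
    have := b0
    simpa using this
  have c3 : z.1 0 0 = z.1 1 1 := by
    have := a1
    rw [c2] at this
    simp at this
    exact this.symm
  have hd := det_eq' z
  refine ⟨c1, c2, c3, ?_⟩
  rw [c1, c2, ← c3] at hd
  linear_combination hd

theorem center_sq {z : SL2 F} (hz : z ∈ center (SL2 F)) : z ^ 2 = 1 := by
  obtain ⟨h1, h2, h3, h4⟩ := sq_of_center hz
  rw [pow_two]
  apply sl_ext' <;> rw [mul_coe]
  · rw [h4, h2, zero_mul, add_zero]; rfl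
  · rw [h2, mul_zero, zero_mul, add_zero]; rfl
  · rw [h1, zero_mul, mul_zero, add_zero]; rfl
  · rw [h1, zero_mul, zero_add, ← h3, h4]; rfl

theorem center_eq_one {z : SL2 F} (h2 : (2 : F) = 0) (hz : z ∈ center (SL2 F)) : z = 1 := by
  obtain ⟨h1, h3, h4, h5⟩ := sq_of_center hz
  have h6 : z.1 0 0 = 1 := by
    have : (z.1 0 0 - 1) * (z.1 0 0 - 1) = 0 := by linear_combination h5 + (1 - z.1 0 0) * h2
    exact sub_eq_zero.1 (mul_self_eq_zero.1 this)
  apply sl_ext'
  · rw [h6]; rfl
  · rw [h3]; rfl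
  · rw [h1]; rfl
  · rw [← h4, h6]; rfl

theorem neg_one_mem_center : (-1 : SL2 F) ∈ center (SL2 F) := by
  rw [mem_center_iff]
  intro g
  simp

section gen

variable {E : Type*} [Group E] [Finite E] {p : ℕ} [Fact p.Prime] [Finite F] [CharP F p] {ρ : E →* SL2 F}

/-- the hypotheses -/
structure CE (p : ℕ) (ρ : E →* SL2 F) : Prop where
  surj : Function.Surjective ρ
  cen : ρ.ker ≤ center E
  cop : (Nat.card ρ.ker).Coprime p
  gen : closure {x : E | ∃ k : ℕ, x ^ p ^ k = 1} = ⊤

theorem pow_ker (h : CE p ρ) {x : E} (hx : x ∈ ρ.ker) : x ^ Nat.card ρ.ker = 1 := by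
  have := pow_card_eq_one' (x := (⟨x, hx⟩ : ρ.ker))
  simpa using congrArg Subtype.val this

theorem eq_one_of_pow (h : CE p ρ) {x : E} (hx : x ∈ ρ.ker) {k : ℕ} (hk : x ^ p ^ k = 1) : x = 1 := by
  have h1 : orderOf x ∣ Nat.card ρ.ker := orderOf_dvd_of_pow_eq_one (pow_ker h hx)
  have h2 : orderOf x ∣ p ^ k := orderOf_dvd_of_pow_eq_one hk
  have h3 : (Nat.card ρ.ker).Coprime (p ^ k) := h.cop.pow_right k
  exact orderOf_eq_one_iff.1 (Nat.eq_one_of_dvd_coprimes h3 h1 h2)

/-- preimages of central elements are central -/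
theorem central (h : CE p ρ) {x : E} (hx : ρ x ∈ center (SL2 F)) : x ∈ center E := by
  have h1 : centralizer ({x} : Set E) = ⊤ := by
    rw [eq_top_iff, ← h.gen, closure_le]
    rintro e ⟨k, hk⟩
    rw [SetLike.mem_coe, mem_centralizer_singleton_iff]
    -- `z = x e x⁻¹ e⁻¹`
    have hz : x * e * x⁻¹ * e⁻¹ ∈ ρ.ker := by
      rw [MonoidHom.mem_ker, map_mul, map_mul, map_mul, map_inv, map_inv,
        ← mem_center_iff.1 hx (ρ e)]
      group
    have hzc := mem_center_iff.1 (h.cen hz)
    have h2 : x * e * x⁻¹ = (x * e * x⁻¹ * e⁻¹) * e := by group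
    have h3 : (x * e * x⁻¹) ^ p ^ k = 1 := by rw [conj_pow, hk]; simp
    rw [h2, (show Commute (x * e * x⁻¹ * e⁻¹) e from (hzc e).symm).mul_pow, hk, mul_one] at h3
    have h4 := eq_one_of_pow h hz h3
    have h5 : x * e = e * x := by
      have : x * e * x⁻¹ * e⁻¹ * (e * x) = e * x := by rw [h4, one_mul]
      rw [← this]; group
    exact h5.symm
  rw [mem_center_iff]
  intro g
  have : g ∈ centralizer ({x} : Set E) := by rw [h1]; exact mem_top _
  exact mem_centralizer_singleton_iff.1 this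

/-- preimages of central elements have order prime to `p` -/
theorem order_of (h : CE p ρ) {x : E} (hx : ρ x ∈ center (SL2 F)) : ∃ m : ℕ, m.Coprime p ∧ x ^ m = 1 := by
  by_cases h2 : p = 2
  · have h3 : (2 : F) = 0 := by
      have := CharP.cast_eq_zero F p
      rw [h2] at this
      exact_mod_cast this
    exact ⟨_, h.cop, pow_ker h (center_eq_one h3 hx)⟩
  · refine ⟨2 * Nat.card ρ.ker, ?_, ?_⟩
    · refine Nat.Coprime.mul_left ?_ h.cop
      exact (Nat.coprime_primes Nat.prime_two Fact.out).2 (Ne.symm h2)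
    · rw [pow_mul]
      apply pow_ker h
      rw [MonoidHom.mem_ker, map_pow, center_sq hx]

theorem mem_commutator (h : CE p ρ) {x : E} (hx : ρ x ∈ center (SL2 F)) : x ∈ commutator E := by
  -- all elements of `E/E'` have `p`-power order
  have h1 : ∀ e : E, ∃ k : ℕ, (Abelianization.of e) ^ p ^ k = 1 := by
    intro e
    have he : e ∈ closure {x : E | ∃ k : ℕ, x ^ p ^ k = 1} := by rw [h.gen]; exact mem_top _
    induction he using closure_induction with
    | mem x hx =>
      obtain ⟨k, hk⟩ := hx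
      exact ⟨k, by rw [← map_pow, hk, map_one]⟩
    | one => exact ⟨0, by rw [map_one, one_pow]⟩
    | mul x y _ _ hx hy =>
      obtain ⟨k, hk⟩ := hx
      obtain ⟨l, hl⟩ := hy
      refine ⟨k + l, ?_⟩
      rw [map_mul, mul_pow, pow_add, pow_mul, hk, one_pow, one_mul, mul_comm (p ^ k), pow_mul, hl, one_pow]
    | inv x _ hx =>
      obtain ⟨k, hk⟩ := hx
      exact ⟨k, by rw [map_inv, inv_pow, hk, inv_one]⟩
  obtain ⟨k, hk⟩ := h1 x
  obtain ⟨m, hm, hm1⟩ := order_of h hx
  have h2 : (Abelianization.of x) ^ m = 1 := by rw [← map_pow, hm1, map_one]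
  have h3 : Abelianization.of x = 1 := by
    have h4 : (m).Coprime (p ^ k) := hm.pow_right k
    exact orderOf_eq_one_iff.1
      (Nat.eq_one_of_dvd_coprimes h4 (orderOf_dvd_of_pow_eq_one h2) (orderOf_dvd_of_pow_eq_one hk))
  have h5 : x ∈ (Abelianization.of : E →* Abelianization E).ker := h3
  rwa [Abelianization.ker_of] at h5

/-- the projection to `PSL₂(F)` -/
def toPSL (ρ : E →* SL2 F) : E →* Matrix.ProjectiveSpecialLinearGroup (Fin 2) F :=
  (QuotientGroup.mk' (center (SL2 F))).comp ρ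

theorem mem_ker_toPSL {x : E} : x ∈ (toPSL ρ).ker ↔ ρ x ∈ center (SL2 F) := by
  rw [MonoidHom.mem_ker]
  change QuotientGroup.mk' (center (SL2 F)) (ρ x) = 1 ↔ _
  rw [QuotientGroup.mk'_apply, QuotientGroup.eq_one_iff]

theorem isStem (h : CE p ρ) : IsStemExtension (toPSL ρ) := by
  refine ⟨(QuotientGroup.mk'_surjective _).comp h.surj, ?_, ?_⟩
  · intro x hx
    exact central h (mem_ker_toPSL.1 hx)
  · intro x hx
    exact mem_commutator h (mem_ker_toPSL.1 hx)

theorem card_ker_toPSL (h : CE p ρ) : Nat.card (toPSL ρ).ker = Nat.card (center (SL2 F)) * Nat.card ρ.ker := by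
  -- `ker (toPSL) → center` onto with kernel `ker ρ`
  have h1 : (toPSL ρ).ker = (center (SL2 F)).comap ρ := by
    ext x; rw [mem_ker_toPSL, mem_comap]
  rw [h1]
  let f : ↥((center (SL2 F)).comap ρ) →* ↥(center (SL2 F)) :=
    (ρ.comp ((center (SL2 F)).comap ρ).subtype).codRestrict _ (fun x => x.2)
  have hf : Function.Surjective f := by
    rintro ⟨z, hz⟩
    obtain ⟨x, rfl⟩ := h.surj z
    exact ⟨⟨x, hz⟩, rfl⟩
  have h2 := Nat.card_congr (QuotientGroup.quotientKerEquivOfSurjective f hf).toEquiv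
  have h3 := Subgroup.card_eq_card_quotient_mul_card_subgroup f.ker
  rw [h2] at h3
  rw [h3]
  congr 1
  have h4 : ρ.ker ≤ (center (SL2 F)).comap ρ := by
    intro x hx
    rw [mem_comap, MonoidHom.mem_ker.1 hx]
    exact one_mem _
  have h5 : f.ker = ρ.ker.subgroupOf ((center (SL2 F)).comap ρ) := by
    ext x
    rw [MonoidHom.mem_ker, mem_subgroupOf, MonoidHom.mem_ker, Subtype.ext_iff]
    rfl
  rw [h5]
  exact Nat.card_congr (subgroupOfEquivOfLe h4).toEquiv

theorem two_le_card_center (hp2 : p ≠ 2) : 2 ≤ Nat.card (center (SL2 F)) := by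
  have h1 : (-1 : SL2 F) ≠ 1 := by
    intro h
    have h2 := congrArg (fun g : SL2 F => g.1 0 0) h
    have h3 : (-1 : F) = 1 := by simpa using h2
    have h4 : ((2 : ℕ) : F) = 0 := by push_cast; linear_combination -h3
    rw [CharP.cast_eq_zero_iff F p] at h4
    exact hp2 ((Nat.prime_dvd_prime_iff_eq Fact.out Nat.prime_two).1 h4)
  have h2 : Nontrivial ↥(center (SL2 F)) :=
    ⟨⟨⟨-1, neg_one_mem_center⟩, 1, fun h => h1 (congrArg Subtype.val h)⟩⟩
  exact Finite.one_lt_card_iff_nontrivial.2 h2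

theorem coprime_ker_toPSL (h : CE p ρ) : (Nat.card (toPSL ρ).ker).Coprime p := by
  rw [Nat.coprime_comm, (Fact.out : p.Prime).coprime_iff_not_dvd]
  intro hd
  obtain ⟨x, hx⟩ := exists_prime_orderOf_dvd_card' p hd
  obtain ⟨m, hm, hm1⟩ := order_of h (mem_ker_toPSL.1 x.2)
  have h1 : orderOf (x : E) = p := by rw [Subgroup.orderOf_coe, hx]
  have h2 := orderOf_dvd_of_pow_eq_one hm1
  rw [h1] at h2
  exact (Fact.out : p.Prime).one_lt.ne' (Nat.eq_one_of_dvd_coprimes hm h2 dvd_rfl)

theorem ker_eq_bot_of_le (h : CE p ρ) (hle : Nat.card (toPSL ρ).ker ≤ Nat.card (center (SL2 F))) : ρ.ker = ⊥ := by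
  rw [card_ker_toPSL h] at hle
  have h1 : 0 < Nat.card (center (SL2 F)) := Nat.card_pos
  have h2 : Nat.card ρ.ker ≤ 1 := by
    by_contra h3
    push Not at h3
    nlinarith
  exact (Subgroup.card_le_one_iff_eq_bot _).1 h2

theorem ker_comp {G : Type*} [Group G] (e : Matrix.ProjectiveSpecialLinearGroup (Fin 2) F ≃* G) :
    (e.toMonoidHom.comp (toPSL ρ)).ker = (toPSL ρ).ker := by
  ext x
  rw [MonoidHom.mem_ker, MonoidHom.mem_ker, MonoidHom.comp_apply]
  exact map_eq_one_iff _ e.injective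

theorem isStem_comp (h : CE p ρ) {G : Type*} [Group G] (e : Matrix.ProjectiveSpecialLinearGroup (Fin 2) F ≃* G) :
    IsStemExtension (e.toMonoidHom.comp (toPSL ρ)) := by
  obtain ⟨h1, h2, h3⟩ := isStem h
  refine ⟨e.surjective.comp h1, ?_, ?_⟩ <;> rw [ker_comp] <;> assumption

theorem le_of_cyclic {n : ℕ} (hn : 0 < n) (h : CE p ρ) {G : Type*} [Group G]
    (e : Matrix.ProjectiveSpecialLinearGroup (Fin 2) F ≃* G)
    (hA : HasCyclicSchurMultiplier G n) :
    Nat.card (toPSL ρ).ker ∣ n := by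
  obtain ⟨f, hf⟩ := H487.HasSchurMultiplier.exists_surj_ker hA (isStem_comp h e)
  have : Finite (Multiplicative (ZMod n)) := by
    have : NeZero n := ⟨hn.ne'⟩
    infer_instance
  have h1 := Subgroup.card_dvd_of_surjective f hf
  rw [ker_comp] at h1
  rwa [Nat.card_congr Multiplicative.toAdd, Nat.card_zmod] at h1

theorem le_two_of_alt (h : CE p ρ) {n : ℕ} (hn : 4 ≤ n) (h6 : n ≠ 6) (h7 : n ≠ 7)
    (e : Matrix.ProjectiveSpecialLinearGroup (Fin 2) F ≃* alternatingGroup (Fin n)) :
    Nat.card (toPSL ρ).ker ≤ 2 := by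
  obtain ⟨h1, h2, h3⟩ := isStem h
  exact Cfsg.Agent.S0892.result n hn h6 h7 (toPSL ρ).ker h2 h3
    ((QuotientGroup.quotientKerEquivOfSurjective _ h1).trans e)

theorem perm3 : ∀ g : Equiv.Perm (Fin 3), g ^ 2 = 1 → g = 1 ∨ g = Equiv.swap 0 1 ∨ g = Equiv.swap 1 2 ∨
    g = Equiv.swap 0 1 * Equiv.swap 1 2 * Equiv.swap 0 1 := by decide

theorem ker_two (h : CE p ρ) (hp2 : p = 2) (e : (SL2 F) ≃* Equiv.Perm (Fin 3)) : ρ.ker = ⊥ := by
  subst hp2
  set φ : E →* Equiv.Perm (Fin 3) := e.toMonoidHom.comp ρ with hφ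
  have hφs : Function.Surjective φ := e.surjective.comp h.surj
  have hφk : ∀ x, φ x = 1 ↔ x ∈ ρ.ker := by
    intro x
    rw [MonoidHom.mem_ker]
    exact map_eq_one_iff _ e.injective
  have hodd : Odd (Nat.card ρ.ker) := (Nat.coprime_two_right).1 h.cop
  obtain ⟨m, hm⟩ := hodd
  have lift : ∀ g : Equiv.Perm (Fin 3), g ^ 2 = 1 → ∃ x : E, φ x = g ∧ x ^ 2 = 1 := by
    intro g hg
    obtain ⟨y, rfl⟩ := hφs g
    refine ⟨y ^ Nat.card ρ.ker, ?_, ?_⟩
    · rw [map_pow, hm, pow_succ, pow_mul, hg, one_pow, one_mul]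
    · rw [← pow_mul, mul_comm, pow_mul]
      apply pow_ker h
      rw [← hφk, map_pow, hg]
  obtain ⟨a, ha, ha2⟩ := lift (Equiv.swap 0 1) (by decide)
  obtain ⟨b, hb, hb2⟩ := lift (Equiv.swap 1 2) (by decide)
  -- elements with the same image and trivial square are equal
  have uniq : ∀ x y : E, φ x = φ y → ∀ k : ℕ, x ^ 2 ^ k = 1 → y ^ 2 = 1 → x = y := by
    intro x y hxy k hx hy
    have hz : x * y⁻¹ ∈ ρ.ker := by
      rw [← hφk, map_mul, map_inv, hxy, mul_inv_cancel]
    have hzc := mem_center_iff.1 (h.cen hz)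
    have e1 : x = (x * y⁻¹) * y := by group
    have h1 : x ^ 2 ^ (k + 1) = 1 := by rw [pow_succ, pow_mul, hx, one_pow]
    have h2 : y ^ 2 ^ (k + 1) = 1 := by rw [pow_succ, mul_comm, pow_mul, hy, one_pow]
    rw [e1, (show Commute (x * y⁻¹) y from (hzc y).symm).mul_pow, h2, mul_one] at h1
    have h3 := eq_one_of_pow h hz h1
    rw [e1, h3, one_mul]
  have hbraid : a * b * a = b * a * b := by
    apply uniq _ _ _ 1
    · have : a * b * a = a * b * a⁻¹ := by
        rw [← (eq_inv_of_mul_eq_one_left (by rw [← pow_two]; exact ha2) : a = a⁻¹)]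
      rw [this, pow_one, conj_pow, hb2]; simp
    · have : b * a * b = b * a * b⁻¹ := by
        rw [← (eq_inv_of_mul_eq_one_left (by rw [← pow_two]; exact hb2) : b = b⁻¹)]
      rw [this, conj_pow, ha2]; simp
    · simp only [map_mul, ha, hb]; decide
  have haa : a * a = 1 := by rw [← pow_two]; exact ha2
  have hbb : b * b = 1 := by rw [← pow_two]; exact hb2
  have hgen : closure ({a, b} : Set E) = ⊤ := by
    rw [eq_top_iff, ← h.gen, closure_le]
    rintro x ⟨k, hk⟩
    have hac : a ∈ closure ({a, b} : Set E) := subset_closure (by simp)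
    have hbc : b ∈ closure ({a, b} : Set E) := subset_closure (by simp)
    have h1 : (φ x) ^ 2 = 1 := by
      have h2 : orderOf (φ x) ∣ 2 ^ k := by
        apply orderOf_dvd_of_pow_eq_one
        rw [← map_pow, hk, map_one]
      have h3 : orderOf (φ x) ∣ 6 := by
        have := orderOf_dvd_natCard (φ x)
        rwa [Nat.card_perm, Nat.card_eq_fintype_card, Fintype.card_fin] at this
      have h4 : orderOf (φ x) ∣ Nat.gcd (2 ^ k) 6 := Nat.dvd_gcd h2 h3
      have h5 : Nat.gcd (2 ^ k) 6 ∣ 2 := by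
        have : Nat.gcd (2 ^ k) (2 * 3) ∣ Nat.gcd (2 ^ k) 2 * Nat.gcd (2 ^ k) 3 := Nat.gcd_mul_right_dvd_mul_gcd _ _ _
        have h7 : Nat.gcd (2 ^ k) 3 = 1 := Nat.Coprime.pow_left k (by norm_num)
        rw [h7, mul_one] at this
        exact this.trans (Nat.gcd_dvd_right _ _)
      exact orderOf_dvd_iff_pow_eq_one.1 (h4.trans h5)
    rcases perm3 _ h1 with h2 | h2 | h2 | h2
    · rw [uniq x 1 (by rw [h2, map_one]) k hk (one_pow 2)]
      exact one_mem _
    · rw [uniq x a (by rw [h2, ha]) k hk ha2]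
      exact hac
    · rw [uniq x b (by rw [h2, hb]) k hk hb2]
      exact hbc
    · have h3 : (a * b * a) ^ 2 = 1 := by
        rw [pow_two]
        calc a * b * a * (a * b * a) = a * b * (a * a) * b * a := by group
          _ = a * (b * b) * a := by rw [haa]; group
          _ = 1 := by rw [hbb, mul_one, haa]
      rw [uniq x (a * b * a) (by rw [h2, map_mul, map_mul, ha, hb]) k hk h3]
      exact mul_mem (mul_mem hac hbc) hac
  have hall : ∀ x : E, x = 1 ∨ x = a ∨ x = b ∨ x = a * b ∨ x = b * a ∨ x = a * b * a := by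
    intro x
    have hx : x ∈ closure ({a, b} : Set E) := by rw [hgen]; exact mem_top _
    have hainv : a⁻¹ = a := (eq_inv_of_mul_eq_one_left haa).symm
    have hbinv : b⁻¹ = b := (eq_inv_of_mul_eq_one_left hbb).symm
    have r1 : a * b * a * b = b * a := by
      rw [hbraid]
      calc b * a * b * b = b * a * (b * b) := by group
        _ = b * a := by rw [hbb, mul_one]
    have key : ∀ x y : E, y = a ∨ y = b → (x = 1 ∨ x = a ∨ x = b ∨ x = a * b ∨ x = b * a ∨ x = a * b * a) →
        (x * y = 1 ∨ x * y = a ∨ x * y = b ∨ x * y = a * b ∨ x * y = b * a ∨ x * y = a * b * a) := by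
      intro x y hy hx
      rcases hy with rfl | rfl
      · rcases hx with rfl | rfl | rfl | rfl | rfl | rfl
        · right; left; rw [one_mul]
        · left; exact haa
        · right; right; right; right; left; rfl
        · right; right; right; right; right; rfl
        · right; right; left; rw [mul_assoc, haa, mul_one]
        · right; right; right; left; rw [mul_assoc (y * b), haa, mul_one]
      · rcases hx with rfl | rfl | rfl | rfl | rfl | rfl
        · right; right; left; rw [one_mul]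
        · right; right; right; left; rfl
        · left; exact hbb
        · right; left; rw [mul_assoc, hbb, mul_one]
        · right; right; right; right; right; rw [hbraid]
        · right; right; right; right; left; exact r1
    induction hx using closure_induction_right with
    | one => exact Or.inl rfl
    | mul_right x _ y hy ih =>
      exact key x y (by simpa using hy) ih
    | mul_inv_cancel x _ y hy ih =>
      have hy' : y = a ∨ y = b := by simpa using hy
      have : y⁻¹ = y := by rcases hy' with rfl | rfl <;> assumption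
      rw [this]
      exact key x y hy' ih
  rw [Subgroup.eq_bot_iff_forall]
  intro x hx
  rw [← hφk] at hx
  rcases hall x with rfl | rfl | rfl | rfl | rfl | rfl
  · rfl
  · rw [ha] at hx; exact absurd hx (by decide)
  · rw [hb] at hx; exact absurd hx (by decide)
  · rw [map_mul, ha, hb] at hx; exact absurd hx (by decide)
  · rw [map_mul, ha, hb] at hx; exact absurd hx (by decide)
  · rw [map_mul, map_mul, ha, hb] at hx; exact absurd hx (by decide)

theorem ker_eq_bot (h : CE p ρ) : ρ.ker = ⊥ := by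
  have := Fintype.ofFinite F
  obtain ⟨n, hp, hn⟩ := FiniteField.card F p
  by_cases h2 : Fintype.card F = 2
  · have hp2 : p = 2 := by
      rw [h2] at hn
      have : p ∣ 2 := by rw [hn]; exact dvd_pow_self p n.ne_zero
      exact (Nat.prime_dvd_prime_iff_eq hp Nat.prime_two).1 this
    obtain ⟨e⟩ := Cfsg.Agent.S0250.result h2
    exact ker_two h hp2 e
  by_cases h3 : Fintype.card F = 3
  · have hp2 : p ≠ 2 := by
      rintro rfl
      rw [h3] at hn
      have : 2 ∣ 3 := by rw [hn]; exact dvd_pow_self 2 n.ne_zero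
      omega
    obtain ⟨e⟩ := Cfsg.Agent.S0251.result h3
    exact ker_eq_bot_of_le h ((le_two_of_alt h (by norm_num) (by norm_num) (by norm_num) e).trans
      (two_le_card_center hp2))
  by_cases h4 : Fintype.card F = 4
  · have hp2 : p = 2 := by
      rw [h4] at hn
      have : p ∣ 2 ^ 2 := by norm_num; rw [hn]; exact dvd_pow_self p n.ne_zero
      exact (Nat.prime_dvd_prime_iff_eq hp Nat.prime_two).1 (hp.dvd_of_dvd_pow this)
    obtain ⟨e⟩ := Cfsg.Agent.S0252.result h4
    have h5 := le_two_of_alt h (by norm_num) (by norm_num) (by norm_num) e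
    have h6 := coprime_ker_toPSL h
    have h7 : Nat.card (toPSL ρ).ker ≠ 2 := by
      intro h8
      rw [h8, hp2] at h6
      norm_num at h6
    refine ker_eq_bot_of_le h ?_
    have h8 : 0 < Nat.card (center (SL2 F)) := Nat.card_pos
    omega
  by_cases h9 : Fintype.card F = 9
  · have hp3 : p = 3 := by
      rw [h9] at hn
      have : p ∣ 3 ^ 2 := by norm_num; rw [hn]; exact dvd_pow_self p n.ne_zero
      exact (Nat.prime_dvd_prime_iff_eq hp Nat.prime_three).1 (hp.dvd_of_dvd_pow this)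
    obtain ⟨e⟩ := Cfsg.Agent.S0254.result h9
    have h5 := le_of_cyclic (by norm_num) h e (Cfsg.Agent.S2116.result 6 (Or.inl rfl))
    have h6 := coprime_ker_toPSL h
    rw [hp3] at h6
    have h7 : Nat.card (toPSL ρ).ker ∣ 2 := by
      have h8 : Nat.card (toPSL ρ).ker ∣ 2 * 3 := h5
      exact h6.dvd_of_dvd_mul_right h8
    exact ker_eq_bot_of_le h ((Nat.le_of_dvd (by norm_num) h7).trans (two_le_card_center (by omega)))
  · have h1 : 1 < Fintype.card F := Fintype.one_lt_card
    have h5 : 4 ≤ Fintype.card F := by omega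
    have h6 := Cfsg.Agent.S2086.result (F := F) rfl 2 le_rfl (fun _ => h5) (by
      simp only [Set.mem_insert_iff, Set.mem_singleton_iff, Prod.mk.injEq, not_or, not_and]
      exact ⟨fun _ => h4, fun _ => h9, by norm_num, by norm_num, by norm_num⟩)
    have hpos : 0 < Nat.gcd 2 (Fintype.card F - 1) := Nat.gcd_pos_of_pos_left _ (by norm_num)
    have h7 := le_of_cyclic hpos h (MulEquiv.refl _) h6
    by_cases hp2 : p = 2
    · -- `q - 1` is odd
      have h8 : Nat.gcd 2 (Fintype.card F - 1) = 1 := by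
        have h10 : 2 ∣ Fintype.card F := by rw [hn, hp2]; exact dvd_pow_self 2 n.ne_zero
        rw [← Nat.coprime_iff_gcd_eq_one, Nat.prime_two.coprime_iff_not_dvd]
        omega
      rw [h8] at h7
      have h10 : 0 < Nat.card (center (SL2 F)) := Nat.card_pos
      exact ker_eq_bot_of_le h ((Nat.le_of_dvd (by norm_num) h7).trans h10)
    · refine ker_eq_bot_of_le h (le_trans ?_ (two_le_card_center hp2))
      exact (Nat.le_of_dvd hpos h7).trans (Nat.gcd_le_left _ (by norm_num))

end gen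

end Cfsg.Agent.H247.P1.Mult
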