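import Cfsg.Agent.H247.P1.End
import Cfsg.Agent.H247.P1.Mult

/-!
# The `P!`-theorem (S3046): if `Y_P` is a natural `SL₂(F)`-module for `P*` then `C_{P*}(Y_P) = O_p(P)`
-/

set_option autoImplicit false
set_option linter.unusedSectionVars false
open Cfsg Subgroup
open Cfsg.Agent.H230 Cfsg.Agent.H229

namespace Cfsg.Agent.H247.P1

variable {H : Type*} [Group H] {p : ℕ}

/-- the elements of `H` normalising `D` and centralising `K` modulo `D`. -/
def cmod (K D : Subgroup H) : Subgroup H where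
  carrier := {y | y ∈ normalizer (D : Set H) ∧ ∀ x ∈ K, x * y * x⁻¹ * y⁻¹ ∈ D}
  one_mem' := ⟨one_mem _, fun x _ => by simp⟩
  mul_mem' := by
    rintro a b ⟨ha, ha'⟩ ⟨hb, hb'⟩
    refine ⟨mul_mem ha hb, fun x hx => ?_⟩
    have h1 := ha' x hx
    have h2 := (mem_normalizer_iff.1 ha _).1 (hb' x hx)
    have e : x * (a * b) * x⁻¹ * (a * b)⁻¹ = (x * a * x⁻¹ * a⁻¹) * (a * (x * b * x⁻¹ * b⁻¹) * a⁻¹) := by group
    rw [e]
    exact mul_mem h1 h2
  inv_mem' := by
    rintro a ⟨ha, ha'⟩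
    refine ⟨inv_mem ha, fun x hx => ?_⟩
    have h1 := (mem_normalizer_iff.1 (inv_mem ha) _).1 (inv_mem (ha' x hx))
    have e : x * a⁻¹ * x⁻¹ * a⁻¹⁻¹ = a⁻¹ * (x * a * x⁻¹ * a⁻¹)⁻¹ * a⁻¹⁻¹ := by group
    rw [e]
    exact h1

namespace PHyp

variable [Finite H] [Fact p.Prime] {S : Sylow p H} {Z C Q P Pstar : Subgroup H}

theorem star_le_cmod (h : PHyp p S Z C Q P) (hPs : Pstar = ncl P Q ⊔ pCoreOf p P) :
    Pstar ≤ cmod (P ⊓ centralizer (largestPReducedOf p P : Set H)) (pCoreOf p P) := by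
  have hKn : P ≤ normalizer ((P ⊓ centralizer (largestPReducedOf p P : Set H) : Subgroup H) : Set H) :=
    le_trans (le_inf le_normalizer ((largest_normal p P).trans (norm_le_norm_centralizer _))) (norm_inf_le _ _)
  rw [hPs]
  refine sup_le ?_ ?_
  · rw [ncl_le_iff]
    rintro g hg _ ⟨q, hq, rfl⟩
    refine ⟨le_norm_pCoreOf p P (P.mul_mem (P.mul_mem hg (h.Q_le_P hq)) (P.inv_mem hg)), fun x hx => ?_⟩
    have hx' : g⁻¹ * x * g ∈ P ⊓ centralizer (largestPReducedOf p P : Set H) := by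
      have := (mem_normalizer_iff.1 (hKn (P.inv_mem hg)) x).1 hx
      simpa using this
    have h1 : (g⁻¹ * x * g) * q * (g⁻¹ * x * g)⁻¹ * q⁻¹ ∈ pCoreOf p P :=
      h.comm_cent_Y_Q (commutator_mem_commutator hx' hq)
    have h2 := (mem_normalizer_iff.1 (le_norm_pCoreOf p P hg) _).1 h1
    have e : x * (MulAut.conj g).toMonoidHom q * x⁻¹ * ((MulAut.conj g).toMonoidHom q)⁻¹ =
        g * ((g⁻¹ * x * g) * q * (g⁻¹ * x * g)⁻¹ * q⁻¹) * g⁻¹ := by
      show x * (g * q * g⁻¹) * x⁻¹ * (g * q * g⁻¹)⁻¹ = _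
      group
    rw [e]
    exact h2
  · intro d hd
    refine ⟨le_normalizer hd, fun x hx => ?_⟩
    exact mul_mem ((mem_normalizer_iff.1 (le_norm_pCoreOf p P hx.1) _).1 hd) (inv_mem hd)

/-- the `p`-elements of `C_P(Y_P)` lie in `O_p(P)` -/
theorem mem_core_of_pow (h : PHyp p S Z C Q P) {x : H} (hx : x ∈ P ⊓ centralizer (largestPReducedOf p P : Set H))
    {k : ℕ} (hk : x ^ p ^ k ∈ pCoreOf p P) : x ∈ pCoreOf p P := by
  set K := P ⊓ centralizer (largestPReducedOf p P : Set H) with hK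
  have hKn : P ≤ normalizer (K : Set H) :=
    le_trans (le_inf le_normalizer ((largest_normal p P).trans (norm_le_norm_centralizer _))) (norm_inf_le _ _)
  have h1 := h.sylP.inf_normal inf_le_left hKn
  have h2 : (S : Subgroup H) ⊓ K = pCoreOf p P := by
    rw [← h.inf_cent_Y]
    apply le_antisymm
    · exact le_inf inf_le_left (inf_le_right.trans inf_le_right)
    · exact le_inf inf_le_left (le_inf (inf_le_left.trans h.hSP) inf_le_right)
  rw [h2] at h1
  -- `x` is a `p`-element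
  obtain ⟨l, hl⟩ := H229.isPGroup_pCoreOf p P ⟨_, hk⟩
  have hl' : x ^ p ^ (k + l) = 1 := by
    have := congrArg Subtype.val hl
    rw [pow_add, pow_mul]
    simpa using this
  have hxp : IsPGroup p ↥(zpowers x) := by
    rintro ⟨y, n, rfl⟩
    refine ⟨k + l, Subtype.ext ?_⟩
    show (x ^ n) ^ p ^ (k + l) = 1
    rw [← zpow_natCast, ← zpow_mul, mul_comm, zpow_mul, zpow_natCast, hl', one_zpow]
  obtain ⟨T, hT, hxT⟩ := exists_isSylowOf_ge (p := p) (zpowers_le.2 hx) hxp
  obtain ⟨a, ha, haT⟩ := h1.exists_conj hT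
  have h3 : cj a (pCoreOf p P) = pCoreOf p P := mem_norm.1 (le_norm_pCoreOf p P ha.1)
  have h4 : T = pCoreOf p P := by rw [← haT]; exact h3
  rw [← h4]
  exact hxT (mem_zpowers x)

/-- the quotient `P*/O_p(P)` is generated by `p`-elements, `C_{P*}(Y_P)/O_p(P)` is a central `p'`-group; hence it is
trivial if `Y_P` is a natural `SL₂(F)`-module. -/
theorem cent_star (h : PHyp p S Z C Q P) (hPs : Pstar = ncl P Q ⊔ pCoreOf p P) {F : Type} [Field F] [Finite F]
    [CharP F p] (hnat : IsNaturalSL2Module F (largestPReducedOf p P) Pstar) :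
    Pstar ⊓ centralizer (largestPReducedOf p P : Set H) = pCoreOf p P := by
  obtain ⟨hPn, ρ, ψ, hρ, hρk, -⟩ := hnat
  apply le_antisymm
  swap
  · exact le_inf (core_le_star hPs) (pCoreOf_le_centralizer_largest p P)
  have hPsP := h.star_le hPs
  have hDn : ((pCoreOf p P).subgroupOf Pstar).Normal := by
    rw [normal_subgroupOf_iff_le_normalizer (core_le_star hPs)]
    exact hPsP.trans (le_norm_pCoreOf p P)
  have hDk : (pCoreOf p P).subgroupOf Pstar ≤ ρ.ker := by
    rw [hρk]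
    intro x hx
    rw [mem_subgroupOf] at hx ⊢
    exact pCoreOf_le_centralizer_largest p P hx
  let ρ' : ↥Pstar ⧸ (pCoreOf p P).subgroupOf Pstar →* Matrix.SpecialLinearGroup (Fin 2) F :=
    QuotientGroup.lift _ ρ hDk
  have hρ' : ∀ x : ↥Pstar, ρ' (QuotientGroup.mk x) = ρ x := fun x => rfl
  have hmem : ∀ x : ↥Pstar, ρ x = 1 → (x : H) ∈ P ⊓ centralizer (largestPReducedOf p P : Set H) := by
    intro x hx
    have : x ∈ ρ.ker := hx
    rw [hρk, mem_subgroupOf] at this
    exact ⟨hPsP x.2, this⟩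
  have hCE : Mult.CE p ρ' := by
    refine ⟨?_, ?_, ?_, ?_⟩
    · intro y
      obtain ⟨x, rfl⟩ := hρ y
      exact ⟨QuotientGroup.mk x, rfl⟩
    · intro x hx
      obtain ⟨x, rfl⟩ := QuotientGroup.mk_surjective x
      rw [mem_center_iff]
      intro y
      obtain ⟨y, rfl⟩ := QuotientGroup.mk_surjective y
      have h1 := (h.star_le_cmod hPs y.2).2 x (hmem x hx)
      rw [← QuotientGroup.mk_mul, ← QuotientGroup.mk_mul]
      symm
      rw [← mul_inv_eq_one, ← QuotientGroup.mk_inv, ← QuotientGroup.mk_mul, QuotientGroup.eq_one_iff, mem_subgroupOf]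
      have e : (((x * y) * (y * x)⁻¹ : ↥Pstar) : H) = (x : H) * y * (x : H)⁻¹ * (y : H)⁻¹ := by
        push_cast
        group
      rw [e]
      exact h1
    · rw [Nat.coprime_comm, (Fact.out : p.Prime).coprime_iff_not_dvd]
      intro hd
      obtain ⟨x, hx⟩ := exists_prime_orderOf_dvd_card' p hd
      obtain ⟨y, hy⟩ := QuotientGroup.mk_surjective (x : ↥Pstar ⧸ (pCoreOf p P).subgroupOf Pstar)
      have hx1 : ρ' (x : ↥Pstar ⧸ (pCoreOf p P).subgroupOf Pstar) = 1 := x.2
      rw [← hy] at hx1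
      have h1 := hmem y hx1
      have h2 : (y : H) ^ p ^ 1 ∈ pCoreOf p P := by
        have h3 : (x : ↥Pstar ⧸ (pCoreOf p P).subgroupOf Pstar) ^ p = 1 := by
          have := pow_orderOf_eq_one x
          rw [hx] at this
          simpa using congrArg Subtype.val this
        rw [← hy, ← QuotientGroup.mk_pow, QuotientGroup.eq_one_iff, mem_subgroupOf] at h3
        simpa using h3
      have h3 := h.mem_core_of_pow h1 h2
      have h4 : x = 1 := by
        apply Subtype.ext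
        rw [← hy]
        show (QuotientGroup.mk y : ↥Pstar ⧸ (pCoreOf p P).subgroupOf Pstar) = 1
        rw [QuotientGroup.eq_one_iff, mem_subgroupOf]
        exact h3
      rw [h4, orderOf_one] at hx
      exact (Fact.out : p.Prime).one_lt.ne hx
    · set G := closure {x : ↥Pstar ⧸ (pCoreOf p P).subgroupOf Pstar | ∃ k : ℕ, x ^ p ^ k = 1} with hG
      have h1 : Pstar ≤ (G.comap (QuotientGroup.mk' _)).map Pstar.subtype := by
        have h2 : ∀ R : Subgroup H, R ≤ Pstar → IsPGroup p ↥R → R ≤ (G.comap (QuotientGroup.mk' _)).map Pstar.subtype := by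
          intro R hR hRp x hx
          refine ⟨⟨x, hR hx⟩, ?_, rfl⟩
          show QuotientGroup.mk' _ (⟨x, hR hx⟩ : ↥Pstar) ∈ G
          apply Subgroup.subset_closure
          obtain ⟨k, hk⟩ := hRp ⟨x, hx⟩
          refine ⟨k, ?_⟩
          rw [← map_pow]
          have : (⟨x, hR hx⟩ : ↥Pstar) ^ p ^ k = 1 := Subtype.ext (by simpa using congrArg Subtype.val hk)
          rw [this, map_one]
        conv_lhs => rw [hPs]
        refine sup_le ?_ (h2 _ (core_le_star hPs) (H229.isPGroup_pCoreOf p P))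
        rw [ncl_le_iff]
        intro g hg
        refine h2 _ ?_ (isPGroup_cj h.Q_pgroup)
        rw [hPs]
        exact (cj_le_ncl hg).trans le_sup_left
      rw [eq_top_iff]
      intro x _
      obtain ⟨x, rfl⟩ := QuotientGroup.mk_surjective x
      obtain ⟨y, hy, hyx⟩ := h1 x.2
      have : y = x := Subtype.ext hyx
      rw [← this]
      exact hy
  have hbot := Mult.ker_eq_bot hCE
  rintro x ⟨hx1, hx2⟩
  have h1 : (QuotientGroup.mk (⟨x, hx1⟩ : ↥Pstar) : ↥Pstar ⧸ (pCoreOf p P).subgroupOf Pstar) ∈ ρ'.ker := by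
    rw [MonoidHom.mem_ker, hρ', ← MonoidHom.mem_ker, hρk, mem_subgroupOf]
    exact hx2
  rw [hbot, mem_bot, QuotientGroup.eq_one_iff, mem_subgroupOf] at h1
  exact h1

end PHyp

/-! ### The assembly of S3046 -/

variable [Finite H] [Fact p.Prime]

theorem charP_of_ringChar {F : Type*} [Field F] (h : ringChar F = p) : CharP F p := h ▸ ringChar.charP F

/-- the conclusion of S3046 from: `Y_P` is natural for `P*`, and `Ω₁(Z(S ∩ P*))` is normalised by `C`. -/
theorem conclusion {S : Sylow p H} {C Q P Pstar : Subgroup H} (h : H271.PU.Hyp p S C Q P)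
    (hPs : Pstar = (normalClosure ((Q.subgroupOf P : Subgroup ↥P) : Set ↥P)).map P.subtype ⊔
      (pCore p ↥P).map P.subtype)
    (hnat : ∃ (F : Type) (_ : Field F) (_ : Fintype F), ringChar F = p ∧
      IsNaturalSL2Module F (largestPReducedOf p P) Pstar)
    (hR : C ≤ normalizer ((omegaOne p (((S : Subgroup H) ⊓ Pstar) ⊓
      centralizer (((S : Subgroup H) ⊓ Pstar : Subgroup H) : Set H)) : Subgroup H) : Set H)) :
    (∃ (F : Type) (_ : Field F) (_ : Fintype F), ringChar F = p ∧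
       Cfsg.IsNaturalSL2Module F (Cfsg.largestPReducedOf p P) Pstar ∧
       Pstar ⊓ Subgroup.centralizer (Cfsg.largestPReducedOf p P : Set H) = (Cfsg.pCore p ↥P).map P.subtype) ∧
    Cfsg.omegaOne p (((S : Subgroup H) ⊓ Pstar) ⊓ Subgroup.centralizer (((S : Subgroup H) ⊓ Pstar : Subgroup H) : Set H)) ≤ C ∧
    ((Cfsg.omegaOne p (((S : Subgroup H) ⊓ Pstar) ⊓ Subgroup.centralizer (((S : Subgroup H) ⊓ Pstar : Subgroup H) : Set H))).subgroupOf C).Normal ∧
    ∀ M : Subgroup H, M < P → (S : Subgroup H) ≤ M → (∀ M' : Subgroup H, M ≤ M' → M' < P → M' = M) → M = P ⊓ C := by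
  have h1 := PHyp.of_hyp h
  have hPs' : Pstar = ncl P Q ⊔ pCoreOf p P := by rw [hPs, normalClosure_map h1.Q_le_P]; rfl
  obtain ⟨F, i1, i2, hF, hn⟩ := hnat
  have := charP_of_ringChar hF
  have hker := h1.cent_star hPs' hn
  have hRC : omegaOne p (((S : Subgroup H) ⊓ Pstar) ⊓
      centralizer (((S : Subgroup H) ⊓ Pstar : Subgroup H) : Set H)) ≤ C :=
    (omegaOne_le _ _).trans (inf_le_left.trans (inf_le_left.trans h1.S_le))
  refine ⟨⟨F, i1, i2, hF, hn, hker⟩, hRC, (normal_subgroupOf_iff_le_normalizer hRC).2 hR, ?_⟩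
  intro M hMP hSM hmax
  exact h1.eq_inf_of_max hPs' hn hker hR hMP hSM hmax

/-- the conclusion of S3046 with `R = C_V(S ∩ P*)`. -/
theorem conclusion' {S : Sylow p H} {C Q P Pstar : Subgroup H} (h : H271.PU.Hyp p S C Q P)
    (hPs : Pstar = (normalClosure ((Q.subgroupOf P : Subgroup ↥P) : Set ↥P)).map P.subtype ⊔
      (pCore p ↥P).map P.subtype)
    (hnat : ∃ (F : Type) (_ : Field F) (_ : Fintype F), ringChar F = p ∧
      IsNaturalSL2Module F (largestPReducedOf p P) Pstar)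
    (hR : C ≤ normalizer ((largestPReducedOf p P ⊓
      centralizer (((S : Subgroup H) ⊓ Pstar : Subgroup H) : Set H) : Subgroup H) : Set H)) :
    (∃ (F : Type) (_ : Field F) (_ : Fintype F), ringChar F = p ∧
       Cfsg.IsNaturalSL2Module F (Cfsg.largestPReducedOf p P) Pstar ∧
       Pstar ⊓ Subgroup.centralizer (Cfsg.largestPReducedOf p P : Set H) = (Cfsg.pCore p ↥P).map P.subtype) ∧
    Cfsg.omegaOne p (((S : Subgroup H) ⊓ Pstar) ⊓ Subgroup.centralizer (((S : Subgroup H) ⊓ Pstar : Subgroup H) : Set H)) ≤ C ∧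
    ((Cfsg.omegaOne p (((S : Subgroup H) ⊓ Pstar) ⊓ Subgroup.centralizer (((S : Subgroup H) ⊓ Pstar : Subgroup H) : Set H))).subgroupOf C).Normal ∧
    ∀ M : Subgroup H, M < P → (S : Subgroup H) ≤ M → (∀ M' : Subgroup H, M ≤ M' → M' < P → M' = M) → M = P ⊓ C := by
  have h1 := PHyp.of_hyp h
  have hPs' : Pstar = ncl P Q ⊔ pCoreOf p P := by rw [hPs, normalClosure_map h1.Q_le_P]; rfl
  apply conclusion h hPs hnat
  rwa [h1.omega_eq (le_inf h1.D_le_S (PHyp.core_le_star hPs'))]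

end Cfsg.Agent.H247.P1
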