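import Cfsg.Agent.H247.P1.Base
import Cfsg.Agent.H229.Asym
import Cfsg.Agent.H230.RelTwo

/-!
# The `P!`-theorem (S3046): the local half, part 2: the minimal parabolic `P`
-/

set_option autoImplicit false
set_option linter.unusedSectionVars false
open Cfsg Subgroup
open Cfsg.Agent.H230 Cfsg.Agent.H229

namespace Cfsg.Agent.H247.P1

variable {H : Type*} [Group H] {p : ℕ}

/-- all local hypotheses of S3046. -/
structure PHyp (p : ℕ) (S : Sylow p H) (Z C Q P : Subgroup H) : Prop extends Hyp p S Z C Q where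
  hSP : (S : Subgroup H) ≤ P
  hPmin : IsPMinimal p ↥P
  hPchar : centralizer (pCoreOf p P : Set H) ≤ pCoreOf p P
  hPC : ¬ P ≤ C

/-- Frattini for a normal subgroup of `A`. -/
theorem frattini {p : ℕ} [Fact p.Prime] [Finite H] {T A N : Subgroup H} (hT : IsSylowOf p T A)
    (hNA : N ≤ A) (hn : A ≤ normalizer (N : Set H)) :
    N ⊔ (A ⊓ normalizer ((T ⊓ N : Subgroup H) : Set H)) = A := by
  apply le_antisymm (sup_le hNA inf_le_left)
  intro a ha
  have h1 := hT.inf_normal hNA hn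
  have h2 : IsSylowOf p (cj a (T ⊓ N)) N := by
    have := h1.map_equiv (MulAut.conj a)
    rwa [map_conj_eq_iff_mem_normalizer.2 (hn ha)] at this
  obtain ⟨n, hn1, hn2⟩ := h2.exists_conj h1
  have h3 : n * a ∈ normalizer ((T ⊓ N : Subgroup H) : Set H) := by
    rw [mem_norm, cj_mul]; exact hn2
  have h4 : a = n⁻¹ * (n * a) := by group
  rw [h4]
  exact mul_mem (mem_sup_left (inv_mem hn1)) (mem_sup_right ⟨A.mul_mem (hNA hn1) ha, h3⟩)

theorem exists_max {p : ℕ} {S : Sylow p H} {P : Subgroup H} (hSP : (S : Subgroup H) ≤ P)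
    (hPmin : IsPMinimal p ↥P) [Finite H] : ∃ M : Subgroup H, (S : Subgroup H) ≤ M ∧ M < P ∧
      ∀ L : Subgroup H, (S : Subgroup H) ≤ L → L < P → L ≤ M := by
  obtain ⟨T, hT⟩ := isSylowOf_iff_maximal.2
    (⟨hSP, S.2, fun R _ hR hSR => S.3 hR hSR⟩ : (S : Subgroup H) ≤ P ∧ IsPGroup p ↥(S : Subgroup H) ∧
      ∀ R : Subgroup H, R ≤ P → IsPGroup p ↥R → (S : Subgroup H) ≤ R → R = (S : Subgroup H))
  obtain ⟨h1, M, ⟨hM1, hM2⟩, hM3⟩ := hPmin T
  refine ⟨M.map P.subtype, ?_, ?_, ?_⟩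
  · rw [← hT]; exact Subgroup.map_mono hM2
  · refine lt_of_le_of_ne (Subgroup.map_subtype_le _) ?_
    intro h
    apply hM1.1
    rw [eq_top_iff]
    intro x _
    have : (x : H) ∈ M.map P.subtype := by rw [h]; exact x.2
    obtain ⟨y, hy, hyx⟩ := this
    rwa [← Subtype.ext hyx]
  · intro L hSL hLP
    have h2 : L.subgroupOf P ≠ ⊤ := by
      intro h
      exact hLP.not_ge (subgroupOf_eq_top.1 h)
    obtain ⟨M', hM', hLM'⟩ := (eq_top_or_exists_le_coatom (L.subgroupOf P)).resolve_left h2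
    have h3 : (T : Subgroup ↥P) ≤ M' := by
      refine le_trans ?_ hLM'
      intro x hx
      rw [mem_subgroupOf]
      apply hSL
      rw [← hT]
      exact ⟨x, hx, rfl⟩
    have h4 := hM3 M' ⟨hM', h3⟩
    subst h4
    have := Subgroup.map_mono (f := P.subtype) hLM'
    rwa [Subgroup.subgroupOf_map_subtype, inf_eq_left.2 hLP.le] at this

namespace PHyp

variable {S : Sylow p H} {Z C Q P : Subgroup H} [Finite H] [Fact p.Prime]

theorem sylP (h : PHyp p S Z C Q P) : IsSylowOf p (S : Subgroup H) P := Hyp.isSylowOf S h.hSP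

theorem inf_lt (h : PHyp p S Z C Q P) : P ⊓ C < P :=
  lt_of_le_of_ne inf_le_left fun h1 => h.hPC (h1 ▸ inf_le_right)

/-- a normal subgroup `N` of `P` inside `C` has `S ∩ N ≤ O_p(P)`. -/
theorem inf_le_core (h : PHyp p S Z C Q P) {N : Subgroup H} (hNP : N ≤ P) (hn : P ≤ normalizer (N : Set H))
    (hNC : N ≤ C) : (S : Subgroup H) ⊓ N ≤ pCoreOf p P := by
  obtain ⟨M, hSM, hMP, hM⟩ := exists_max h.hSP h.hPmin
  have h1 := frattini h.sylP hNP hn
  have h2 : (S : Subgroup H) ≤ normalizer (((S : Subgroup H) ⊓ N : Subgroup H) : Set H) :=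
    le_trans (le_inf le_normalizer (h.hSP.trans hn)) (norm_inf_le _ _)
  have h3 : N ≤ M := by
    refine le_trans le_sup_left (hM (N ⊔ S) le_sup_right (lt_of_le_of_lt ?_ h.inf_lt))
    exact le_inf (sup_le hNP h.hSP) (sup_le hNC h.S_le)
  have h4 : P ⊓ normalizer (((S : Subgroup H) ⊓ N : Subgroup H) : Set H) = P := by
    by_contra h5
    have h6 := hM _ (le_inf h.hSP h2) (lt_of_le_of_ne inf_le_left h5)
    exact hMP.not_ge (by rw [← h1]; exact sup_le h3 h6)
  refine H229.le_pCoreOf (inf_le_right.trans hNP) ?_ (isPGroup_mono inf_le_left S.2)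
  rw [← h4]
  exact inf_le_right

theorem D_le_S (h : PHyp p S Z C Q P) : pCoreOf p P ≤ (S : Subgroup H) := pCoreOf_le_of_isSylowOf h.sylP

theorem Z_le_core (h : PHyp p S Z C Q P) : Z ≤ pCoreOf p P := by
  refine le_trans ?_ h.hPchar
  exact h.Z_le.trans (inf_le_right.trans (Subgroup.centralizer_le h.D_le_S))

theorem pow_eq_one_of_mem_Z (h : PHyp p S Z C Q P) {z : H} (hz : z ∈ Z) : z ^ p = 1 := by
  have h0 : omegaOne p ((S : Subgroup H) ⊓ centralizer ((S : Subgroup H) : Set H)) ≤ zOmega p (S : Subgroup H) := by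
    unfold omegaOne
    rw [closure_le]
    rintro x ⟨⟨hx1, hx2⟩, hx3⟩
    exact ⟨hx1, hx2, hx3⟩
  rw [h.hZ] at hz
  exact (h0 hz).2.2

theorem Z_le_zOmega (h : PHyp p S Z C Q P) : Z ≤ zOmega p (pCoreOf p P) := by
  intro z hz
  refine ⟨h.Z_le_core hz, ?_, h.pow_eq_one_of_mem_Z hz⟩
  exact (Subgroup.centralizer_le h.D_le_S) (h.Z_le hz).2

theorem pRed_zOmega (h : PHyp p S Z C Q P) : PRed p (zOmega p (pCoreOf p P)) P := by
  refine ⟨fun x hx => H229.pCoreOf_le _ _ hx.1, ?_, ea_zOmega _ _, ?_⟩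
  · exact (le_norm_pCoreOf p P).trans (norm_le_norm_zOmega _ _)
  · intro B hBP hPB hB
    have h1 : resOf p B ≤ centralizer (zOmega p (pCoreOf p P) : Set H) := resOf_le_centralizer hB
    have hT := h.sylP.inf_normal hBP hPB
    have hBC : B ≤ C := by
      rw [← hT.resOf_sup]
      refine sup_le ?_ (inf_le_left.trans h.S_le)
      exact h1.trans ((Subgroup.centralizer_le h.Z_le_zOmega).trans h.cent_Z_le)
    have h2 := h.inf_le_core hBP hPB hBC
    rw [← hT.resOf_sup]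
    refine sup_le h1 (h2.trans ?_)
    intro x hx
    rw [mem_centralizer_iff]
    intro y hy
    exact ((mem_centralizer_iff.1 hy.2.1) x hx).symm

/-- `Y_P = Ω₁(Z(O_p(P)))`. -/
theorem Y_eq (h : PHyp p S Z C Q P) : largestPReducedOf p P = zOmega p (pCoreOf p P) :=
  le_antisymm (largest_le_zOmega p P) (le_largest h.pRed_zOmega)

theorem Z_le_Y (h : PHyp p S Z C Q P) : Z ≤ largestPReducedOf p P := by
  rw [h.Y_eq]; exact h.Z_le_zOmega

theorem cent_Y_le (h : PHyp p S Z C Q P) : centralizer (largestPReducedOf p P : Set H) ≤ C :=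
  (Subgroup.centralizer_le h.Z_le_Y).trans h.cent_Z_le

/-- `C_S(Y_P) = O_p(P)`. -/
theorem inf_cent_Y (h : PHyp p S Z C Q P) :
    (S : Subgroup H) ⊓ centralizer (largestPReducedOf p P : Set H) = pCoreOf p P := by
  apply le_antisymm
  · have h1 : P ≤ normalizer ((P ⊓ centralizer (largestPReducedOf p P : Set H) : Subgroup H) : Set H) :=
      le_trans (le_inf le_normalizer ((largest_normal p P).trans (norm_le_norm_centralizer _))) (norm_inf_le _ _)
    have h2 := h.inf_le_core inf_le_left h1 (inf_le_right.trans h.cent_Y_le)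
    exact le_trans (le_inf inf_le_left (le_inf (inf_le_left.trans h.hSP) inf_le_right)) h2
  · exact le_inf h.D_le_S (pCoreOf_le_centralizer_largest p P)

/-- `Y_P ≤ Y_M`. -/
theorem Y_le_Y (h : PHyp p S Z C Q P) {M : Subgroup H} (hPM : P ≤ M)
    (hM : centralizer (pCoreOf p M : Set H) ≤ pCoreOf p M) :
    largestPReducedOf p P ≤ largestPReducedOf p M := by
  have hSM : IsSylowOf p (S : Subgroup H) M := Hyp.isSylowOf S (h.hSP.trans hPM)
  have h1 : pCoreOf p M ≤ (S : Subgroup H) := pCoreOf_le_of_isSylowOf hSM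
  have h2 : pCoreOf p M ≤ pCoreOf p P := by
    have := pCoreOf_inf_le (p := p) hPM
    rwa [inf_eq_left.2 (h1.trans h.hSP)] at this
  have hYz : largestPReducedOf p P ≤ zOmega p (pCoreOf p M) := by
    rw [h.Y_eq]
    intro x hx
    have hx1 : x ∈ centralizer (pCoreOf p M : Set H) := (Subgroup.centralizer_le h2) hx.2.1
    exact ⟨hM hx1, hx1, hx.2.2⟩
  have hMn : M ≤ normalizer (zOmega p (pCoreOf p M) : Set H) :=
    (le_norm_pCoreOf p M).trans (norm_le_norm_zOmega _ _)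
  have hW : ncl M (largestPReducedOf p P) ≤ zOmega p (pCoreOf p M) := ncl_le hMn hYz
  refine (le_ncl M _).trans (le_largest ⟨?_, le_norm_ncl _ _, ea_mono (ea_zOmega _ _) hW, ?_⟩)
  · exact hW.trans fun x hx => H229.pCoreOf_le _ _ hx.1
  · intro B hBM hMB hB
    -- `B ∩ P` centralizes `Y_P`
    have h3 : B ⊓ P ≤ centralizer (largestPReducedOf p P : Set H) := by
      refine (pRed_largest p P).2.2.2 _ inf_le_right ?_ ?_
      · exact le_trans (le_inf (hPM.trans hMB) le_normalizer) (norm_inf_le _ _)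
      · intro b hb
        obtain ⟨k, hk⟩ := hB b hb.1
        exact ⟨k, (Subgroup.centralizer_le (le_ncl M _)) hk⟩
    have hT := hSM.inf_normal hBM hMB
    have h4 : B ≤ centralizer (largestPReducedOf p P : Set H) := by
      refine le_centralizer_of_sylow (le_ncl M _) hB hT ?_
      exact le_trans (le_inf inf_le_right (inf_le_left.trans h.hSP)) h3
    apply le_centralizer_comm
    rw [ncl_le_iff]
    intro m hm
    have h5 : largestPReducedOf p P ≤ centralizer (B : Set H) := le_centralizer_comm h4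
    have h6 := cj_mono (g := m) h5
    rwa [cj_centralizer, mem_norm.1 (hMB hm)] at h6

/-- `Y_P ≤ Q`. -/
theorem Y_le_Q (h : PHyp p S Z C Q P)
    (hYM : ∀ M : Subgroup H, P ≤ M → centralizer (pCoreOf p M : Set H) ≤ pCoreOf p M →
      (∀ M' : Subgroup H, M ≤ M' → centralizer (pCoreOf p M' : Set H) ≤ pCoreOf p M' → M' = M) →
      largestPReducedOf p M ≤ Q) : largestPReducedOf p P ≤ Q := by
  let s : Set (Subgroup H) := {M | P ≤ M ∧ centralizer (pCoreOf p M : Set H) ≤ pCoreOf p M}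
  obtain ⟨M, hPM, hM⟩ := (Set.toFinite s).exists_le_maximal (show P ∈ s from ⟨le_rfl, h.hPchar⟩)
  refine (h.Y_le_Y hPM hM.prop.2).trans (hYM M hPM hM.prop.2 ?_)
  intro M' hMM' hM'
  exact le_antisymm (hM.2 ⟨hPM.trans hMM', hM'⟩ hMM') hMM'

/-- `Q ≰ O_p(P)`. -/
theorem not_Q_le (h : PHyp p S Z C Q P) : ¬ Q ≤ pCoreOf p P := by
  intro h1
  apply h.hPC
  intro g hg
  apply h.mem_C_of_cj_le_S
  refine le_trans ?_ h.D_le_S
  exact (cj_mono h1).trans (cj_le_of_norm ((le_norm_pCoreOf p P) hg))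

theorem Q_le_P (h : PHyp p S Z C Q P) : Q ≤ P := h.Q_le_S.trans h.hSP

/-- `C_V(Q) ∩ C_V(Q)^g = 1` for `g ∈ P ∖ C`. -/
theorem point (h : PHyp p S Z C Q P) {g : H} (hg : g ∉ C) :
    centralizer (Q : Set H) ⊓ cj g (centralizer (Q : Set H)) = ⊥ := by
  rw [Subgroup.eq_bot_iff_forall]
  rintro x ⟨hx, hx'⟩
  exact h.eq_one_of_mem hg hx hx'

/-- `[C_P(V), Q] ≤ O_p(P)`. -/
theorem comm_cent_Y_Q (h : PHyp p S Z C Q P) :
    ⁅P ⊓ centralizer (largestPReducedOf p P : Set H), Q⁆ ≤ pCoreOf p P := by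
  rw [← h.inf_cent_Y]
  have h1 : P ⊓ centralizer (largestPReducedOf p P : Set H) ≤ normalizer (Q : Set H) := by
    rw [h.C_eq]; exact inf_le_right.trans h.cent_Y_le
  refine le_inf ?_ ?_
  · exact (le_norm_iff_comm_le.1 h1).trans h.Q_le_S
  · have h2 : Q ≤ normalizer (centralizer (largestPReducedOf p P : Set H) : Set H) :=
      h.Q_le_P.trans ((largest_normal p P).trans (norm_le_norm_centralizer _))
    rw [commutator_comm]
    exact (Subgroup.commutator_mono le_rfl inf_le_right).trans (le_norm_iff_comm_le.1 h2)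

/-- `X := C_V(Q) = V ∩ Z(Q)`; here `V ≤ Q`. -/
theorem Z_le_point (h : PHyp p S Z C Q P) : Z ≤ largestPReducedOf p P ⊓ centralizer (Q : Set H) :=
  le_inf h.Z_le_Y h.Z_le_cent_Q

/-- `O_p(L) ≠ 1`, `S ≤ L`: `C_H(O_p(L)) ≤ O_p(L)`. -/
theorem cent_core_le (h : PHyp p S Z C Q P) {L : Subgroup H} (hSL : (S : Subgroup H) ≤ L)
    (hL : pCoreOf p L ≠ ⊥) : centralizer (pCoreOf p L : Set H) ≤ pCoreOf p L :=
  (mem_charPSubgroups.1 (h.largeP.mem_charPSubgroups S h.Q_le_S hSL hL)).2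

/-- a normal subgroup `N` of `P` with `S ∩ N ≰ O_p(P)` supplements `S`. -/
theorem sup_eq (h : PHyp p S Z C Q P) {N : Subgroup H} (hNP : N ≤ P) (hn : P ≤ normalizer (N : Set H))
    (hN : ¬ (S : Subgroup H) ⊓ N ≤ pCoreOf p P) : N ⊔ (S : Subgroup H) = P := by
  by_contra hne
  obtain ⟨M, hSM, hMP, hM⟩ := exists_max h.hSP h.hPmin
  have h1 := frattini h.sylP hNP hn
  have h2 : (S : Subgroup H) ≤ normalizer (((S : Subgroup H) ⊓ N : Subgroup H) : Set H) :=
    le_trans (le_inf le_normalizer (h.hSP.trans hn)) (norm_inf_le _ _)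
  have h3 : N ≤ M := le_trans le_sup_left
    (hM (N ⊔ S) le_sup_right (lt_of_le_of_ne (sup_le hNP h.hSP) hne))
  have h4 : P ⊓ normalizer (((S : Subgroup H) ⊓ N : Subgroup H) : Set H) = P := by
    by_contra h5
    have h6 := hM _ (le_inf h.hSP h2) (lt_of_le_of_ne inf_le_left h5)
    exact hMP.not_ge (by rw [← h1]; exact sup_le h3 h6)
  apply hN
  refine H229.le_pCoreOf (inf_le_right.trans hNP) ?_ (isPGroup_mono inf_le_left S.2)
  rw [← h4]
  exact inf_le_right

/-- `P = ⟨Q^P⟩ S`. -/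
theorem ncl_Q_sup (h : PHyp p S Z C Q P) : ncl P Q ⊔ (S : Subgroup H) = P := by
  apply h.sup_eq (ncl_le_self h.Q_le_P) (le_norm_ncl P Q)
  intro h1
  exact h.not_Q_le (le_trans (le_inf h.Q_le_S (le_ncl P Q)) h1)

/-- `P = ⟨S^P⟩`. -/
theorem ncl_S (h : PHyp p S Z C Q P) : ncl P (S : Subgroup H) = P := by
  apply le_antisymm (ncl_le_self h.hSP)
  calc P = ncl P Q ⊔ (S : Subgroup H) := h.ncl_Q_sup.symm
    _ ≤ _ := sup_le (ncl_le (le_norm_ncl _ _) (h.Q_le_S.trans (le_ncl _ _))) (le_ncl _ _)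

theorem core_le_of_normal_le (h : PHyp p S Z C Q P) : pCoreOf p P ≤ P := H229.pCoreOf_le _ _

/-- a subgroup `A ≠ 1` of `V` centralised by `S` has `N_H(A) ≤ C`. -/
theorem norm_le_of_cent_S (h : PHyp p S Z C Q P) {A : Subgroup H} (hA : A ≤ centralizer ((S : Subgroup H) : Set H))
    (hA1 : A ≠ ⊥) : normalizer (A : Set H) ≤ C :=
  h.norm_le (hA.trans (Subgroup.centralizer_le h.Q_le_S)) hA1

/-- a nontrivial `p`-subgroup normal in `P` meets `C_H(S)` nontrivially. -/
theorem inf_cent_S_ne_bot (h : PHyp p S Z C Q P) {A : Subgroup H} (hA : IsPGroup p ↥A) (hA1 : A ≠ ⊥)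
    (hn : (S : Subgroup H) ≤ normalizer (A : Set H)) : A ⊓ centralizer ((S : Subgroup H) : Set H) ≠ ⊥ :=
  PLocal.OffenderStep.inf_centralizer_ne_bot A S hA S.2 hn hA1

/-- no nontrivial `p`-subgroup of `H` is centralised by `O^p(P)` and normalised by `P`. -/
theorem eq_bot_of_cent_res (h : PHyp p S Z C Q P) {A : Subgroup H} (hA : IsPGroup p ↥A)
    (hn : (S : Subgroup H) ≤ normalizer (A : Set H)) (hc : A ≤ centralizer (resOf p P : Set H)) : A = ⊥ := by
  by_contra hA1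
  apply h.hPC
  have h1 := h.inf_cent_S_ne_bot hA hA1 hn
  refine le_trans ?_ (h.norm_le_of_cent_S inf_le_right h1)
  refine le_trans ?_ (centralizer_le_norm _)
  rw [← h.sylP.resOf_sup]
  refine sup_le ?_ ?_
  · exact le_centralizer_comm (inf_le_left.trans hc)
  · exact le_centralizer_comm inf_le_right

/-- `C_V(O^p(P)) = 1`. -/
theorem inf_cent_res (h : PHyp p S Z C Q P) :
    largestPReducedOf p P ⊓ centralizer (resOf p P : Set H) = ⊥ := by
  apply h.eq_bot_of_cent_res (isPGroup_mono inf_le_left (ea_isPGroup (largest_ea p P))) _ inf_le_right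
  refine le_trans ?_ (norm_inf_le _ _)
  exact le_inf (h.hSP.trans (largest_normal p P))
    (h.hSP.trans ((le_normalizer_resOf p P).trans (norm_le_norm_centralizer _)))

end PHyp

end Cfsg.Agent.H247.P1
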